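import Cfsg.Agent.Lib.Fischer.RadicalAbelian.SpecialUnitary

/-!
# The covering hypothesis for a unitary quotient of degree five

The stabilizer of an isotropic `x` is the side group of `x` times four-member products `g` with square in
the side, so the squares of the stabilizer lie in the side and the squares of the core.
-/

set_option autoImplicit false
set_option linter.style.haveILetI false
set_option linter.unusedSectionVars false

namespace Cfsg.Lib.Fischer.RadicalAbelian

open Module Cfsg Cfsg.Lib.Fischer Cfsg.Lib.Linear.Herm Cfsg.Agent.S1631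

open scoped Pointwise

namespace Five

section Space

variable {F V : Type*} [Field F] [Fintype F] [AddCommGroup V] [Module F V] [FiniteDimensional F V]
  {σ : F →+* F} {B : V →ₛₗ[σ] V →ₗ[F] F}

/-- Two hyperbolic pairs and a unit vector, pairwise orthogonal. -/
structure Frame (B : V →ₛₗ[σ] V →ₗ[F] F) (x y w z m : V) : Prop where
  xx : B x x = 0
  yy : B y y = 0
  ww : B w w = 0
  zz : B z z = 0
  mm : B m m = 1
  xy : B x y = 1
  wz : B w z = 1
  xw : B x w = 0
  xz : B x z = 0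
  yw : B y w = 0
  yz : B y z = 0
  xm : B x m = 0
  ym : B y m = 0
  wm : B w m = 0
  zm : B z m = 0

variable (hK : FourField F σ) (hS : B.IsSymm) (hB : B.Nondegenerate) (h5 : finrank F V = 5)
include hK hS

theorem double (v : V) : v + v = 0 := by
  nth_rw 1 [← Unitary.neg_smul_one hK hS v]; rw [neg_add_cancel]

theorem conj_one {a b : V} (h : B a b = 1) : B b a = 1 := by rw [← hS.eq a b, h, map_one]

theorem exists_omega : ∃ o : F, o + σ o = 1 ∧ σ o * o = 1 ∧ o ≠ 0 := by
  obtain ⟨o, ho⟩ := exists_trace_eq hK.ne_id hK.invol (a := (1 : F)) (map_one σ)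
  have h0 : o ≠ 0 := by rintro rfl; simp at ho
  exact ⟨o, ho, by rw [hK.sq]; exact hK.cube o h0, h0⟩

/-- An isotropic vector paired to one with `w` inside the perpendicular of a subspace. -/
theorem exists_partner {w : V} (hw : B w w = 0) (P : V → Prop)
    (hP : ∀ (a : V) (c : F), P a → P (a + c • w)) {u : V} (hu : P u) (hwu : B w u = 1) :
    ∃ z, P z ∧ B z z = 0 ∧ B w z = 1 := by
  obtain ⟨l, hl⟩ := exists_trace_eq hK.ne_id hK.invol (a := B u u) (hS.eq u u)
  refine ⟨u + l • w, hP u l hu, ?_, by rw [map_add, map_smul, hwu, hw, smul_zero, add_zero]⟩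
  simp only [map_add, LinearMap.add_apply, LinearMap.map_smulₛₗ, LinearMap.smul_apply, map_smul,
    smul_eq_mul, RingHom.id_apply, hw, hwu, conj_one hK hS hwu, mul_zero, mul_one, add_zero]
  linear_combination hl + B u u * hK.two

include hB h5

theorem exists_unit_perp (a b c e : V) (hab : B a b ≠ 0) (hce : B c e ≠ 0) (haa : B a a = 0) (hbb : B b b = 0)
    (hcc : B c c = 0) (hee : B e e = 0) (hac : B a c = 0) (hae : B a e = 0) (hbc : B b c = 0) (hbe : B b e = 0) :
    ∃ n, B a n = 0 ∧ B b n = 0 ∧ B c n = 0 ∧ B e n = 0 ∧ B n n = 1 := by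
  let f : V →ₗ[F] F × F × F × F := (B a).prod ((B b).prod ((B c).prod (B e)))
  obtain ⟨n, hn, hn0⟩ : ∃ n ∈ LinearMap.ker f, n ≠ 0 := by
    refine Submodule.exists_mem_ne_zero_of_ne_bot fun hbot => ?_
    have h1 := LinearMap.finrank_range_add_finrank_ker f
    have h2 := Submodule.finrank_le (LinearMap.range f)
    rw [Module.finrank_prod, Module.finrank_prod, Module.finrank_prod, Module.finrank_self] at h2
    rw [hbot, finrank_bot] at h1
    omega
  simp only [f, LinearMap.ker_prod, Submodule.mem_inf, LinearMap.mem_ker] at hn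
  obtain ⟨na, nb, nc, ne'⟩ := hn
  refine ⟨n, na, nb, nc, ne', (fixed_cases hK (hS.eq n n)).resolve_left fun hnn => hn0 ?_⟩
  have hba : B b a ≠ 0 := fun h => hab (hS.isRefl _ _ h)
  have hec : B e c ≠ 0 := fun h => hce (hS.isRefl _ _ h)
  -- five vectors: the four and `n` span
  let L : (F × F × F × F) × F →ₗ[F] V :=
    { toFun := fun p => p.1.1 • a + p.1.2.1 • b + p.1.2.2.1 • c + p.1.2.2.2 • e + p.2 • n
      map_add' := fun p r => by simp only [Prod.fst_add, Prod.snd_add, add_smul]; abel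
      map_smul' := fun k p => by
        simp only [Prod.smul_fst, Prod.smul_snd, smul_eq_mul, mul_smul, RingHom.id_apply, smul_add] }
  have hinj : Function.Injective L := by
    rw [← LinearMap.ker_eq_bot, LinearMap.ker_eq_bot']
    rintro ⟨⟨p, r, s, t⟩, k⟩ hp
    replace hp : p • a + r • b + s • c + t • e + k • n = 0 := hp
    have e1 := congrArg (B a) hp
    have e2 := congrArg (B b) hp
    have e3 := congrArg (B c) hp
    have e4 := congrArg (B e) hp
    simp only [map_add, map_smul, map_zero, smul_eq_mul, haa, hbb, hcc, hee, hac, hae, hbc, hbe, na, nb, nc,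
      ne', hS.isRefl _ _ hac, hS.isRefl _ _ hae, hS.isRefl _ _ hbc, hS.isRefl _ _ hbe, mul_zero, add_zero,
      zero_add, mul_eq_zero, hab, hba, hce, hec, or_false] at e1 e2 e3 e4
    subst e1 e2 e3 e4
    simp only [zero_smul, zero_add] at hp
    have hk := (smul_eq_zero.1 hp).resolve_right hn0
    subst hk
    rfl
  have hsurj : Function.Surjective L := by
    refine (LinearMap.injective_iff_surjective_of_finrank_eq_finrank ?_).1 hinj
    rw [Module.finrank_prod, Module.finrank_prod, Module.finrank_prod, Module.finrank_prod, Module.finrank_self, h5]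
  refine hB.1 n fun v => ?_
  obtain ⟨⟨⟨p, r, s, t⟩, k⟩, rfl⟩ := hsurj v
  show B n (p • a + r • b + s • c + t • e + k • n) = 0
  simp only [map_add, map_smul, hS.isRefl _ _ na, hS.isRefl _ _ nb, hS.isRefl _ _ nc, hS.isRefl _ _ ne', hnn,
    smul_zero, add_zero]

/-- Every pair of isotropic vectors extends to a frame, given a third isotropic vector perpendicular to both. -/
theorem exists_frame {x y : V} (hx : B x x = 0) (hy : B y y = 0) (hxy : B x y = 1) {w : V} (hw : B w w = 0)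
    (hw0 : w ≠ 0) (hxw : B x w = 0) (hyw : B y w = 0) : ∃ z m, Frame B x y w z m := by
  obtain ⟨u, hu⟩ : ∃ u, B w u ≠ 0 := by
    by_contra h
    push Not at h
    exact hw0 (hB.1 w h)
  have hyx := conj_one hK hS hxy
  set u' := u - (B y u • x + B x u • y)
  have hu' : B x u' = 0 ∧ B y u' = 0 ∧ B w u' = B w u := by
    simp [u', map_sub, map_add, map_smul, hx, hy, hxy, hyx, hS.isRefl _ _ hxw, hS.isRefl _ _ hyw]
  obtain ⟨z, ⟨hxz, hyz⟩, hzz, hwz⟩ := exists_partner hK hS hw (fun a => B x a = 0 ∧ B y a = 0)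
    (fun a c ha => by simp [ha.1, ha.2, hxw, hyw]) (u := (B w u)⁻¹ • u') (by simp [hu'.1, hu'.2.1])
    (by rw [map_smul, smul_eq_mul, hu'.2.2, inv_mul_cancel₀ hu])
  obtain ⟨m, hxm, hym, hwm, hzm, hmm⟩ := exists_unit_perp hK hS hB h5 x y w z
    (by rw [hxy]; exact one_ne_zero) (by rw [hwz]; exact one_ne_zero) hx hy hw hzz hxw hxz hyw hyz
  exact ⟨z, m, ⟨hx, hy, hw, hzz, hmm, hxy, hwz, hxw, hxz, hyw, hyz, hxm, hym, hwm, hzm⟩⟩

theorem exists_iso_perp {x y : V} (hx : B x x = 0) (hy : B y y = 0) (hxy : B x y = 1) :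
    ∃ w, B w w = 0 ∧ w ≠ 0 ∧ B x w = 0 ∧ B y w = 0 := by
  have hyx := conj_one hK hS hxy
  obtain ⟨u, ⟨hxu, hyu⟩, huu⟩ : ∃ u, (B x u = 0 ∧ B y u = 0) ∧ B u u = 1 := by
    by_contra hcon
    push Not at hcon
    have h0 : ∀ u, B x u = 0 ∧ B y u = 0 → B u u = 0 := fun u hu =>
      (fixed_cases hK (hS.eq u u)).resolve_right (hcon u hu)
    obtain ⟨u, hu, hu0⟩ : ∃ u ∈ LinearMap.ker ((B x).prod (B y)), u ≠ 0 := by
      refine Submodule.exists_mem_ne_zero_of_ne_bot fun hbot => ?_
      have h1 := LinearMap.finrank_range_add_finrank_ker ((B x).prod (B y))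
      have h2 := Submodule.finrank_le (LinearMap.range ((B x).prod (B y)))
      rw [Module.finrank_prod, Module.finrank_self] at h2
      rw [hbot, finrank_bot] at h1
      omega
    rw [LinearMap.ker_prod, Submodule.mem_inf, LinearMap.mem_ker, LinearMap.mem_ker] at hu
    refine hu0 (hB.1 u fun v => ?_)
    by_contra hne
    set r := v - (B y v • x + B x v • y)
    have hr : B x r = 0 ∧ B y r = 0 := by
      simp [r, map_sub, map_add, map_smul, hx, hy, hxy, hyx]
    have hur : B u r = B u v := by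
      simp [r, map_sub, map_add, map_smul, hS.isRefl _ _ hu.1, hS.isRefl _ _ hu.2]
    obtain ⟨o, ho, -, -⟩ := exists_omega hK hS
    have hk := h0 (u + (o * (B u r)⁻¹) • r) ⟨by simp [hu.1, hr.1], by simp [hu.2, hr.2]⟩
    simp only [map_add, LinearMap.add_apply, LinearMap.map_smulₛₗ, LinearMap.smul_apply, map_smul,
      smul_eq_mul, RingHom.id_apply, h0 u hu, h0 r hr, mul_zero, add_zero, zero_add] at hk
    rw [mul_assoc o, inv_mul_cancel₀ (hur ▸ hne), mul_one, map_mul, map_inv₀, ← hS.eq u r,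
      mul_assoc, inv_mul_cancel₀ (fun h => hne (hur ▸ σ.injective (by rw [h, map_zero]))), mul_one] at hk
    exact one_ne_zero (α := F) (by rw [← ho]; linear_combination hk)
  obtain ⟨l, hl⟩ := exists_trace_eq hK.ne_id hK.invol (a := (1 : F)) (map_one σ)
  by_contra hcon
  push Not at hcon
  -- a second unit vector perpendicular to `u`
  let f : V →ₗ[F] F × F × F := (B x).prod ((B y).prod (B u))
  obtain ⟨r, hr, hr0⟩ : ∃ r ∈ LinearMap.ker f, r ≠ 0 := by
    refine Submodule.exists_mem_ne_zero_of_ne_bot fun hbot => ?_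
    have h1 := LinearMap.finrank_range_add_finrank_ker f
    have h2 := Submodule.finrank_le (LinearMap.range f)
    rw [Module.finrank_prod, Module.finrank_prod, Module.finrank_self] at h2
    rw [hbot, finrank_bot] at h1
    omega
  simp only [f, LinearMap.ker_prod, Submodule.mem_inf, LinearMap.mem_ker] at hr
  rcases fixed_cases hK (hS.eq r r) with h | h
  · exact hcon r h hr0 hr.1 hr.2.1
  · refine hcon (u + r) ?_ ?_ (by simp [hxu, hr.1]) (by simp [hyu, hr.2.1])
    · simp only [map_add, LinearMap.add_apply, huu, h, hr.2.2, hS.isRefl _ _ hr.2.2]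
      linear_combination hK.two
    · intro h0
      have := congrArg (B u) h0
      simp [huu, hr.2.2] at this

variable {x y w z m : V}

theorem frame_ext (hf : Frame B x y w z m) {g g' : V ≃ₗ[F] V} (hx : g x = g' x) (hy : g y = g' y)
    (hw : g w = g' w) (hz : g z = g' z) (hm : g m = g' m) : g = g' := by
  let L : (F × F × F × F) × F →ₗ[F] V :=
    { toFun := fun p => p.1.1 • x + p.1.2.1 • y + p.1.2.2.1 • w + p.1.2.2.2 • z + p.2 • m
      map_add' := fun p r => by simp only [Prod.fst_add, Prod.snd_add, add_smul]; abel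
      map_smul' := fun k p => by
        simp only [Prod.smul_fst, Prod.smul_snd, smul_eq_mul, mul_smul, RingHom.id_apply, smul_add] }
  have hinj : Function.Injective L := by
    rw [← LinearMap.ker_eq_bot, LinearMap.ker_eq_bot']
    rintro ⟨⟨p, r, s, t⟩, k⟩ hp
    replace hp : p • x + r • y + s • w + t • z + k • m = 0 := hp
    have e1 := congrArg (B x) hp
    have e2 := congrArg (B y) hp
    have e3 := congrArg (B w) hp
    have e4 := congrArg (B z) hp
    have e5 := congrArg (B m) hp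
    simp only [map_add, map_smul, map_zero, smul_eq_mul, hf.xx, hf.yy, hf.ww, hf.zz, hf.mm, hf.xy, hf.wz,
      hf.xw, hf.xz, hf.yw, hf.yz, hf.xm, hf.ym, hf.wm, hf.zm, conj_one hK hS hf.xy, conj_one hK hS hf.wz,
      hS.isRefl _ _ hf.xw, hS.isRefl _ _ hf.xz, hS.isRefl _ _ hf.yw, hS.isRefl _ _ hf.yz,
      hS.isRefl _ _ hf.xm, hS.isRefl _ _ hf.ym, hS.isRefl _ _ hf.wm, hS.isRefl _ _ hf.zm, mul_zero, mul_one,
      add_zero, zero_add] at e1 e2 e3 e4 e5
    subst e1 e2 e3 e4 e5
    rfl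
  have hsurj : Function.Surjective L := by
    refine (LinearMap.injective_iff_surjective_of_finrank_eq_finrank ?_).1 hinj
    rw [Module.finrank_prod, Module.finrank_prod, Module.finrank_prod, Module.finrank_prod, Module.finrank_self, h5]
  refine LinearEquiv.ext fun v => ?_
  obtain ⟨⟨⟨p, r, s, t⟩, k⟩, rfl⟩ := hsurj v
  show g (p • x + r • y + s • w + t • z + k • m) = g' (p • x + r • y + s • w + t • z + k • m)
  simp only [map_add, map_smul, hx, hy, hw, hz, hm]

/-- A vector perpendicular to `x` and `y` in frame coordinates. -/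
theorem coord (hf : Frame B x y w z m) {v : V} (hxv : B x v = 0) (hyv : B y v = 0) :
    v = B z v • w + B w v • z + B m v • m := by
  rw [eq_comm, ← sub_eq_zero]
  set r := B z v • w + B w v • z + B m v • m - v
  let f : V →ₗ[F] (F × F × F × F) × F := ((B x).prod ((B y).prod ((B w).prod (B z)))).prod (B m)
  have hinj : Function.Injective f := by
    refine (LinearMap.injective_iff_surjective_of_finrank_eq_finrank ?_).2 ?_
    · rw [Module.finrank_prod, Module.finrank_prod, Module.finrank_prod, Module.finrank_prod, Module.finrank_self, h5]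
    rintro ⟨⟨p, q, s, t⟩, k⟩
    refine ⟨q • x + p • y + t • w + s • z + k • m, ?_⟩
    simp [f, hf.xx, hf.yy, hf.ww, hf.zz, hf.mm, hf.xy, hf.wz,
      hf.xw, hf.xz, hf.yw, hf.yz, hf.xm, hf.ym, hf.wm, hf.zm, conj_one hK hS hf.xy, conj_one hK hS hf.wz,
      hS.isRefl _ _ hf.xw, hS.isRefl _ _ hf.xz, hS.isRefl _ _ hf.yw, hS.isRefl _ _ hf.yz,
      hS.isRefl _ _ hf.xm, hS.isRefl _ _ hf.ym, hS.isRefl _ _ hf.wm, hS.isRefl _ _ hf.zm]
  apply hinj
  rw [map_zero]
  simp [f, r, map_sub, hxv, hyv, hf.xw, hf.xz, hf.xm, hf.yw, hf.yz, hf.ym, hf.ww, hf.wz, hf.wm, hf.zz, hf.zm,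
    hf.mm, conj_one hK hS hf.wz, hS.isRefl _ _ hf.wm, hS.isRefl _ _ hf.zm]

/-- The side is transitive on the isotropic vectors perpendicular to `x` and `y`, fixing both. -/
theorem transitiveW (hx : B x x = 0) (hy : B y y = 0) (hxy : B x y = 1) {r s : V} (hr : B r r = 0)
    (hr0 : r ≠ 0) (hxr : B x r = 0) (hyr : B y r = 0) (hs : B s s = 0) (hs0 : s ≠ 0) (hxs : B x s = 0)
    (hys : B y s = 0) : ∃ t ∈ Unitary.side hK B x, t x = x ∧ t y = y ∧ t r = s := by
  have step : ∀ {r s : V}, B r r = 0 → B x r = 0 → B y r = 0 → B s s = 0 → B x s = 0 → B y s = 0 →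
      B r s = 1 → ∃ t ∈ Unitary.side hK B x, t x = x ∧ t y = y ∧ t r = s := by
    intro r s hr hxr hyr hs hxs hys hrs
    have hsr := conj_one hK hS hrs
    have hw : B (r + s) (r + s) = 0 := by
      simp only [map_add, LinearMap.add_apply, hr, hs, hrs, hsr]
      linear_combination hK.two
    have h0 : r + s ≠ 0 := fun h => by
      have h' := congrArg (B r) h
      simp [hr, hrs] at h'
    have hxw : B x (r + s) = 0 := by rw [map_add, hxr, hxs, add_zero]
    have hyw : B y (r + s) = 0 := by rw [map_add, hyr, hys, add_zero]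
    refine ⟨tvu hK hw, Subgroup.subset_closure ⟨_, hw, h0, hxw, rfl⟩, ?_, ?_, ?_⟩
    · rw [tvu_apply, hS.isRefl _ _ hxw, zero_smul, add_zero]
    · rw [tvu_apply, hS.isRefl _ _ hyw, zero_smul, add_zero]
    · rw [tvu_apply, map_add, LinearMap.add_apply, hr, hsr, zero_add, one_smul, ← add_assoc,
        double hK hS, zero_add]
  have near : ∀ {r s : V}, B r r = 0 → B x r = 0 → B y r = 0 → B s s = 0 → B x s = 0 → B y s = 0 →
      B r s ≠ 0 → ∃ t ∈ Unitary.side hK B x, t x = x ∧ t y = y ∧ t r = s := by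
    intro r s hr hxr hyr hs hxs hys hrs
    by_cases h1 : B r s = 1
    · exact step hr hxr hyr hs hxs hys h1
    obtain ⟨n, hxn, hyn, hrn, hsn, hnn⟩ := exists_unit_perp hK hS hB h5 x y r s
      (by rw [hxy]; exact one_ne_zero) hrs hx hy hr hs hxr hxs hyr hys
    obtain ⟨c, hc⟩ : ∃ c, c = B r s := ⟨_, rfl⟩
    have hsr : B s r = σ c := by rw [hc, hS.eq]
    have hcc : c * σ c = 1 := by rw [hK.sq, ← mul_assoc]; exact hK.cube c (hc ▸ hrs)
    have htr : c + σ c = 1 := by
      refine (fixed_cases hK (show σ (c + σ c) = c + σ c by rw [map_add, hK.invol, add_comm])).resolve_left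
        fun h => h1 ?_
      rw [← hc]
      refine (fixed_cases hK (show σ c = c by linear_combination h - c * hK.two)).resolve_left (hc ▸ hrs)
    set u := c • r + σ c • s + n with hu
    have hxu : B x u = 0 := by simp [hu, hxr, hxs, hxn]
    have hyu : B y u = 0 := by simp [hu, hyr, hys, hyn]
    have hru : B r u = 1 := by
      simp only [hu, map_add, map_smul, hr, ← hc, hrn, smul_eq_mul, mul_zero, zero_add, add_zero]
      linear_combination hcc
    have hsu : B s u = 1 := by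
      simp only [hu, map_add, map_smul, hs, hsr, hsn, smul_eq_mul, mul_zero, add_zero]
      exact hcc
    have huu : B u u = 0 := by
      simp only [hu, map_add, LinearMap.add_apply, LinearMap.map_smulₛₗ, LinearMap.smul_apply, map_smul,
        smul_eq_mul, RingHom.id_apply, hr, hs, ← hc, hsr, hrn, hsn, hnn, hS.isRefl _ _ hrn, hS.isRefl _ _ hsn,
        hK.invol, mul_zero, add_zero, zero_add]
      linear_combination (c + σ c) * hcc + htr + hK.two
    obtain ⟨t, ht, t1, t2, t3⟩ := step hr hxr hyr huu hxu hyu hru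
    obtain ⟨t', ht', u1, u2, u3⟩ := step huu hxu hyu hs hxs hys (by rw [← hS.eq, hsu, map_one])
    exact ⟨t' * t, mul_mem ht' ht, by rw [LinearEquiv.mul_apply, t1, u1],
      by rw [LinearEquiv.mul_apply, t2, u2], by rw [LinearEquiv.mul_apply, t3, u3]⟩
  by_cases hrs : B r s = 0
  · obtain ⟨z', m', hf⟩ := exists_frame hK hS hB h5 hx hy hxy hr hr0 hxr hyr
    have hc := coord hK hS hB h5 hf hxs hys
    rw [hrs, zero_smul, add_zero] at hc
    have hm' : B m' s = 0 := by
      by_contra hne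
      have h' := hs
      rw [hc] at h'
      simp only [map_add, LinearMap.add_apply, LinearMap.map_smulₛₗ, LinearMap.smul_apply, map_smul,
        smul_eq_mul, RingHom.id_apply, hr, hf.wm, hf.mm, hS.isRefl _ _ hf.wm, mul_zero, mul_one, add_zero,
        zero_add, mul_eq_zero, map_eq_zero, hne, or_self] at h'
    rw [hm', zero_smul, add_zero] at hc
    have hne : B z' s ≠ 0 := fun h => hs0 (by rw [hc, h, zero_smul])
    obtain ⟨t, ht, t1, t2, t3⟩ := near hr hxr hyr hf.zz hf.xz hf.yz (by rw [hf.wz]; exact one_ne_zero)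
    obtain ⟨t', ht', u1, u2, u3⟩ := near hf.zz hf.xz hf.yz hs hxs hys hne
    exact ⟨t' * t, mul_mem ht' ht, by rw [LinearEquiv.mul_apply, t1, u1],
      by rw [LinearEquiv.mul_apply, t2, u2], by rw [LinearEquiv.mul_apply, t3, u3]⟩
  · exact near hr hxr hyr hs hxs hys hrs

/-- The product of four transvections attached to a pair of centres and a common perpendicular `w`. -/
structure Gen (B : V →ₛₗ[σ] V →ₗ[F] F) (x w p p' : V) (g : V ≃ₗ[F] V) : Prop where
  pp : B p p = 0
  pp' : B p' p' = 0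
  pw : B p w = 0
  pw' : B p' w = 0
  xp : B x p ≠ 0
  xp' : B x p' ≠ 0
  def_ : ∀ (h1 : B p p = 0) (h2 : B (p + w) (p + w) = 0) (h3 : B p' p' = 0) (h4 : B (p' + w) (p' + w) = 0),
    g = tvu hK h1 * tvu hK h2 * (tvu hK h3 * tvu hK h4)

variable {o : F}

theorem exists_gen (hf : Frame B x y w z m) {c : F} (hc : c ≠ 0) :
    ∃ p p' g, Gen hK B x w p p' g ∧ g x = x ∧ g y = y ∧ g w = w ∧ g m = m + c • w ∧
      g * g = tvu hK hf.ww := by
  obtain ⟨o, ho, hno, ho0⟩ := exists_omega hK hS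
  have hyx := conj_one hK hS hf.xy
  obtain ⟨m', hm'⟩ : ∃ m', m' = c⁻¹ • m := ⟨_, rfl⟩
  have hm'm : B m' m' = 1 := by
    simp only [hm', map_smulₛₗ, LinearMap.smul_apply, RingHom.id_apply, hf.mm, smul_eq_mul, mul_one]
    rw [mul_comm, hK.sq]
    exact hK.cube _ (inv_ne_zero hc)
  have hxm' : B x m' = 0 := by rw [hm', map_smul, hf.xm, smul_zero]
  have hym' : B y m' = 0 := by rw [hm', map_smul, hf.ym, smul_zero]
  have hwm' : B w m' = 0 := by rw [hm', map_smul, hf.wm, smul_zero]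
  obtain ⟨p, hp⟩ : ∃ p, p = o • m' + x + o • y := ⟨_, rfl⟩
  obtain ⟨p', hp'⟩ : ∃ p', p' = σ o • m' + x + o • y := ⟨_, rfl⟩
  have hpp : B p p = 0 := by
    simp only [hp, map_add, LinearMap.add_apply, LinearMap.map_smulₛₗ, LinearMap.smul_apply, map_smul,
      smul_eq_mul, RingHom.id_apply, hm'm, hf.xx, hf.yy, hf.xy, hyx, hxm', hym', hS.isRefl _ _ hxm',
      hS.isRefl _ _ hym', mul_zero, mul_one, add_zero, zero_add]
    linear_combination hno + ho + hK.two
  have hpp' : B p' p' = 0 := by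
    simp only [hp', map_add, LinearMap.add_apply, LinearMap.map_smulₛₗ, LinearMap.smul_apply, map_smul,
      smul_eq_mul, RingHom.id_apply, hK.invol, hm'm, hf.xx, hf.yy, hf.xy, hyx, hxm', hym', hS.isRefl _ _ hxm',
      hS.isRefl _ _ hym', mul_zero, mul_one, add_zero, zero_add]
    linear_combination hno + ho + hK.two
  have hpw : B p w = 0 := by simp [hp, hf.xw, hf.yw, hS.isRefl _ _ hwm']
  have hpw' : B p' w = 0 := by simp [hp', hf.xw, hf.yw, hS.isRefl _ _ hwm']
  have hxp : B x p = o := by simp [hp, hxm', hf.xx, hf.xy]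
  have hxp' : B x p' = o := by simp [hp', hxm', hf.xx, hf.xy]
  have hiso : ∀ {u : V}, B u u = 0 → B u w = 0 → B (u + w) (u + w) = 0 := fun {u} h1 h2 => by
    simp [h1, h2, hS.isRefl _ _ h2, hf.ww]
  obtain ⟨g, hg⟩ : ∃ g, g = tvu hK hpp * tvu hK (hiso hpp hpw) * (tvu hK hpp' * tvu hK (hiso hpp' hpw')) :=
    ⟨_, rfl⟩
  have hsum : p + p' = m' := by
    calc p + p' = (o + σ o) • m' + ((x + x) + (o • y + o • y)) := by rw [hp, hp']; module
      _ = m' := by rw [ho, one_smul, double hK hS, double hK hS, add_zero, add_zero]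
  have pair : ∀ {u : V} (h1 : B u u = 0) (h2 : B u w = 0) (v : V),
      (tvu hK h1 * tvu hK (hiso h1 h2)) v = v + B u v • w + B w v • (u + w) := by
    intro u h1 h2 v
    rw [LinearEquiv.mul_apply, tvu_apply, tvu_apply]
    have huw : B u (u + w) = 0 := by rw [map_add, h1, h2, add_zero]
    rw [map_add B, LinearMap.add_apply, map_add, map_smul, huw, smul_zero, add_zero]
    calc v + (B u v + B w v) • (u + w) + B u v • u
        = v + B u v • w + B w v • (u + w) + (B u v • u + B u v • u) := by module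
      _ = _ := by rw [double hK hS, add_zero]
  have happ : ∀ v, g v = v + (B m' v + B w v * B p p') • w + B w v • m' := by
    intro v
    rw [hg, LinearEquiv.mul_apply, pair hpp' hpw', pair hpp hpw]
    have e1 : B w (v + B p' v • w + B w v • (p' + w)) = B w v := by
      simp [hf.ww, hS.isRefl _ _ hpw']
    have e2 : B p (v + B p' v • w + B w v • (p' + w)) = B p v + B w v * B p p' := by
      simp [hpw]
    rw [e1, e2, ← hsum, map_add B, LinearMap.add_apply]
    calc v + B p' v • w + B w v • (p' + w) + (B p v + B w v * B p p') • w + B w v • (p + w)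
        = v + (B p v + B p' v + B w v * B p p') • w + B w v • (p + p') + (B w v • w + B w v • w) := by module
      _ = _ := by rw [double hK hS, add_zero]
  have hwx := hS.isRefl _ _ hf.xw
  have hwy := hS.isRefl _ _ hf.yw
  refine ⟨p, p', g, ⟨hpp, hpp', hpw, hpw', by rw [hxp]; exact ho0, by rw [hxp']; exact ho0,
    fun _ _ _ _ => hg⟩, ?_, ?_, ?_, ?_, ?_⟩
  · rw [happ, hwx, hS.isRefl _ _ hxm']; simp
  · rw [happ, hwy, hS.isRefl _ _ hym']; simp
  · rw [happ, hf.ww, hS.isRefl _ _ hwm']; simp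
  · rw [happ, hf.wm, hm', LinearMap.map_smulₛₗ, LinearMap.smul_apply, hf.mm]
    have hcc : σ c⁻¹ = c := by
      rw [hK.sq]
      field_simp
      linear_combination -hK.cube c hc
    simp [hcc]
  · refine LinearEquiv.ext fun v => ?_
    rw [LinearEquiv.mul_apply, happ (g v), tvu_apply]
    have e1 : B w (g v) = B w v := by rw [happ]; simp [hf.ww, hwm']
    have e2 : B m' (g v) = B m' v + B w v := by rw [happ]; simp [hm'm, hS.isRefl _ _ hwm']
    rw [e1, e2, happ]
    calc v + (B m' v + B w v * B p p') • w + B w v • m' + (B m' v + B w v + B w v * B p p') • w + B w v • m'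
        = v + B w v • w + (((B m' v + B w v * B p p') • w + (B m' v + B w v * B p p') • w) +
            (B w v • m' + B w v • m')) := by module
      _ = _ := by rw [double hK hS, double hK hS, add_zero, add_zero]

/-- The stabilizer of `x` is the side times the generators. -/
theorem stabilizer (hx : B x x = 0) (hx0 : x ≠ 0) {k : V ≃ₗ[F] V} (hk : k ∈ iso B)
    (hd : LinearEquiv.det k = 1) (hkx : k x = x) :
    ∃ a ∈ Unitary.side hK B x, ∃ b ∈ Unitary.side hK B x, a * k * b = 1 ∨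
      ∃ w p p', ∃ hw : B w w = 0, w ≠ 0 ∧ B x w = 0 ∧ Gen hK B x w p p' (a * k * b) ∧
        a * k * b * (a * k * b) = tvu hK hw := by
  obtain ⟨y, hxy, hy⟩ : ∃ y, B x y = 1 ∧ B y y = 0 := by
    obtain ⟨u, hu⟩ : ∃ u, B x u ≠ 0 := by
      by_contra h
      push Not at h
      exact hx0 (hB.1 x h)
    obtain ⟨y, -, h1, h2⟩ := exists_partner hK hS hx (fun _ => True) (fun _ _ _ => trivial)
      (u := (B x u)⁻¹ • u) trivial (by rw [map_smul, smul_eq_mul, inv_mul_cancel₀ hu])
    exact ⟨y, h2, h1⟩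
  have hyx := conj_one hK hS hxy
  obtain ⟨t, ht, hty⟩ := Unitary.transitive hK hS hB (by omega) hx (show B (k y) (k y) = 0 by rw [hk, hy])
    (show B x (k y) = 1 by rw [← hkx, hk, hxy]) hy hxy
  obtain ⟨w, hw, hw0, hxw, hyw⟩ := exists_iso_perp hK hS hB h5 hx hy hxy
  set h := t * k with hhdef
  have hh : h ∈ iso B := mul_mem (Unitary.side_iso hK hS hB ht) hk
  have hhx : h x = x := by rw [LinearEquiv.mul_apply, hkx, Unitary.side_fix hK hS hB ht]
  have hhy : h y = y := by rw [LinearEquiv.mul_apply, hty]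
  obtain ⟨t', ht', t'x, t'y, t'w⟩ := transitiveW hK hS hB h5 hx hy hxy (r := h w) (s := w)
    (by rw [hh, hw]) ((LinearEquiv.map_ne_zero_iff h).2 hw0) (by rw [← hhx, hh, hxw]) (by rw [← hhy, hh, hyw])
    hw hw0 hxw hyw
  set h1 := t' * h with h1def
  have hh1 : h1 ∈ iso B := mul_mem (Unitary.side_iso hK hS hB ht') hh
  have h1x : h1 x = x := by rw [LinearEquiv.mul_apply, hhx, t'x]
  have h1y : h1 y = y := by rw [LinearEquiv.mul_apply, hhy, t'y]
  have h1w : h1 w = w := by rw [LinearEquiv.mul_apply, t'w]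
  have h1d : LinearEquiv.det h1 = 1 := by
    rw [map_mul, map_mul, Unitary.side_det hK hS hB ht', Unitary.side_det hK hS hB ht, hd, one_mul, one_mul]
  obtain ⟨z, m, hf⟩ := exists_frame hK hS hB h5 hx hy hxy hw hw0 hxw hyw
  have hcm := coord hK hS hB h5 hf (v := h1 m) (by rw [← h1x, hh1, hf.xm]) (by rw [← h1y, hh1, hf.ym])
  have hwm : B w (h1 m) = 0 := by rw [← h1w, hh1, hf.wm]
  rw [hwm, zero_smul, add_zero] at hcm
  obtain ⟨ν, hν⟩ : ∃ ν, ν = B z (h1 m) := ⟨_, rfl⟩
  obtain ⟨μ, hμ⟩ : ∃ μ, μ = B m (h1 m) := ⟨_, rfl⟩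
  rw [← hν, ← hμ] at hcm
  have hμn : σ μ * μ = 1 := by
    have h' : B (h1 m) (h1 m) = 1 := by rw [hh1, hf.mm]
    rw [hcm] at h'
    simp only [map_add, LinearMap.add_apply, LinearMap.map_smulₛₗ, LinearMap.smul_apply, map_smul,
      smul_eq_mul, RingHom.id_apply, hf.ww, hf.wm, hf.mm, hS.isRefl _ _ hf.wm, mul_zero, mul_one, add_zero,
      zero_add] at h'
    linear_combination h'
  have hμ0 : μ ≠ 0 := by rintro rfl; simp at hμn
  obtain ⟨g0, hg0, hg0x, hg0y, hg0w, hg0m, hgen⟩ : ∃ g0, g0 ∈ iso B ∧ g0 x = x ∧ g0 y = y ∧ g0 w = w ∧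
      g0 (μ • m) = h1 m ∧ LinearEquiv.det g0 = 1 ∧ (g0 = 1 ∨ ∃ p p', Gen hK B x w p p' g0 ∧
        g0 * g0 = tvu hK hf.ww) := by
    by_cases hν0 : ν = 0
    · refine ⟨1, one_mem _, rfl, rfl, rfl, ?_, map_one _, Or.inl rfl⟩
      rw [hcm, hν0, zero_smul, zero_add]; rfl
    · obtain ⟨p, p', g0, hG, e1, e2, e3, e4, e5⟩ := exists_gen hK hS hB h5 hf (c := ν / μ) (div_ne_zero hν0 hμ0)
      have hisow : ∀ {u : V}, B u u = 0 → B u w = 0 → B (u + w) (u + w) = 0 := fun {u} a b => by
        simp [a, b, hS.isRefl _ _ b, hf.ww]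
      have hdef := hG.def_ hG.pp (hisow hG.pp hG.pw) hG.pp' (hisow hG.pp' hG.pw')
      refine ⟨g0, ?_, e1, e2, e3, ?_, ?_, Or.inr ⟨p, p', hG, e5⟩⟩
      · rw [hdef]
        exact mul_mem (mul_mem (tvu_mem hK hS _) (tvu_mem hK hS _)) (mul_mem (tvu_mem hK hS _) (tvu_mem hK hS _))
      · rw [map_smul, e4, smul_add, smul_smul, mul_div_cancel₀ _ hμ0, hcm, add_comm]
      · have hdt : ∀ {u : V} (hu : B u u = 0), LinearEquiv.det (tvu hK hu) = 1 := fun {u} hu =>
          Units.ext (by rw [tvu, det_qrefl, hu, mul_zero, add_zero]; rfl)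
        rw [hdef, map_mul, map_mul, map_mul, hdt, hdt, hdt, hdt, mul_one, mul_one]
  obtain ⟨hg0d, hgen⟩ := hgen
  have inv_fix : ∀ {v : V}, g0 v = v → g0⁻¹ v = v := fun {v} hv => by
    apply g0.injective; rw [← LinearEquiv.mul_apply, mul_inv_cancel, hv]; rfl
  set h2 := g0⁻¹ * h1 with h2def
  have hh2 : h2 ∈ iso B := mul_mem (inv_mem hg0) hh1
  have h2x : h2 x = x := by rw [LinearEquiv.mul_apply, h1x, inv_fix hg0x]
  have h2y : h2 y = y := by rw [LinearEquiv.mul_apply, h1y, inv_fix hg0y]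
  have h2w : h2 w = w := by rw [LinearEquiv.mul_apply, h1w, inv_fix hg0w]
  have h2m : h2 m = μ • m := by
    rw [LinearEquiv.mul_apply, ← hg0m, ← LinearEquiv.mul_apply, inv_mul_cancel]; rfl
  have hcz := coord hK hS hB h5 hf (v := h2 z) (by rw [← h2x, hh2, hf.xz]) (by rw [← h2y, hh2, hf.yz])
  have hwz : B w (h2 z) = 1 := by rw [← h2w, hh2, hf.wz]
  have hmz : B m (h2 z) = 0 := by
    have h' : B (h2 m) (h2 z) = 0 := by rw [hh2]; exact hS.isRefl _ _ hf.zm
    rw [h2m, LinearMap.map_smulₛₗ, LinearMap.smul_apply, smul_eq_mul, mul_eq_zero] at h'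
    exact h'.resolve_left (by simpa using hμ0)
  rw [hwz, hmz, one_smul, zero_smul, add_zero] at hcz
  obtain ⟨τ, hτ⟩ : ∃ τ, τ = B z (h2 z) := ⟨_, rfl⟩
  rw [← hτ] at hcz
  have hτ01 : τ = 0 ∨ τ = 1 := by
    refine fixed_cases hK ?_
    have h' : B (h2 z) (h2 z) = 0 := by rw [hh2, hf.zz]
    rw [hcz] at h'
    simp only [map_add, LinearMap.add_apply, LinearMap.map_smulₛₗ, LinearMap.smul_apply, map_smul,
      smul_eq_mul, RingHom.id_apply, hf.ww, hf.zz, hf.wz, conj_one hK hS hf.wz, mul_zero, mul_one, add_zero,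
      zero_add] at h'
    linear_combination h' - τ * hK.two
  obtain ⟨T, hT, hTx, hTy, hTw, hTm, hTz⟩ : ∃ T ∈ Unitary.side hK B x, T x = x ∧ T y = y ∧ T w = w ∧
      T m = m ∧ T (h2 z) = z := by
    rcases hτ01 with h | h
    · exact ⟨1, one_mem _, rfl, rfl, rfl, rfl, by rw [hcz, h, zero_smul, zero_add]; rfl⟩
    · refine ⟨tvu hK hw, Subgroup.subset_closure ⟨w, hw, hw0, hxw, rfl⟩, ?_, ?_, ?_, ?_, ?_⟩
      · rw [tvu_apply, hS.isRefl _ _ hxw, zero_smul, add_zero]
      · rw [tvu_apply, hS.isRefl _ _ hyw, zero_smul, add_zero]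
      · rw [tvu_apply, hw, zero_smul, add_zero]
      · rw [tvu_apply, hf.wm, zero_smul, add_zero]
      · rw [hcz, h, one_smul, tvu_apply, map_add, hw, hf.wz, zero_add, one_smul, add_comm w, add_assoc,
          double hK hS, add_zero]
  set h3 := T * h2
  have hl : (μ + 1) + σ (μ + 1) + σ (μ + 1) * (μ + 1) * B m m = 0 := by
    rw [hf.mm, map_add, map_one]
    linear_combination hμn + (μ + σ μ + 2) * hK.two
  have e3 : h3 = qrefl (B := B) m (μ + 1) hl := by
    refine frame_ext hK hS hB h5 hf ?_ ?_ ?_ ?_ ?_ <;> rw [qrefl_apply, LinearEquiv.mul_apply]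
    · rw [h2x, hTx, hS.isRefl _ _ hf.xm, mul_zero, zero_smul, add_zero]
    · rw [h2y, hTy, hS.isRefl _ _ hf.ym, mul_zero, zero_smul, add_zero]
    · rw [h2w, hTw, hS.isRefl _ _ hf.wm, mul_zero, zero_smul, add_zero]
    · rw [hTz, hS.isRefl _ _ hf.zm, mul_zero, zero_smul, add_zero]
    · rw [h2m, map_smul, hTm, hf.mm, mul_one]
      calc μ • m = μ • m + (m + m) := by rw [double hK hS, add_zero]
        _ = _ := by module
  have h3d : LinearEquiv.det h3 = 1 := by
    rw [map_mul, map_mul, map_inv, Unitary.side_det hK hS hB hT, hg0d, h1d, inv_one, one_mul, one_mul]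
  have hμ1 : μ + 1 = 0 := by
    have h' := congrArg Units.val h3d
    rw [e3, det_qrefl, hf.mm, mul_one, Units.val_one] at h'
    linear_combination h'
  have h3one : h3 = 1 := by
    rw [e3]
    refine LinearEquiv.ext fun v => ?_
    rw [qrefl_apply, hμ1, zero_mul, zero_smul, add_zero]; rfl
  refine ⟨t' * t, mul_mem ht' ht, T, hT, ?_⟩
  have e : t' * t * k * T = g0 := by
    have hTT : h2 = T⁻¹ := eq_inv_of_mul_eq_one_right h3one
    have h1e : h1 = g0 * h2 := by rw [h2def, mul_inv_cancel_left]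
    rw [mul_assoc t' t k, ← hhdef, ← h1def, h1e, hTT, inv_mul_cancel_right]
  rcases hgen with h' | ⟨p, p', hG, hsq⟩
  · exact Or.inl (e.trans h')
  · exact Or.inr ⟨w, p, p', hf.ww, hw0, hxw, e ▸ hG, by rw [e]; exact hsq⟩

end Space

end Five

variable {G : Type*} [Group G] [Finite G] {D : Set G} {F V : Type*} [Field F] [Fintype F] [AddCommGroup V]
  [Module F V] [FiniteDimensional F V] {σ : F →+* F} {hK : FourField F σ} {B : V →ₛₗ[σ] V →ₗ[F] F}

include hK in
/-- The covering hypothesis in degree five. -/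
theorem covers_five (Q : Quot D hK B) (hS : B.IsSymm) (hND : B.Nondegenerate) (h5 : finrank F V = 5)
    (S : Hyp D) (hodd : Odd (Nat.card {v : V // v ≠ 0 ∧ B v v = 0})) : Covers D := by
  classical
  intro d hd
  have hD := S.trans
  haveI := pairs_normal S
  obtain ⟨x, hx, hx0, hdx⟩ := Q.centre d hd
  let act : MulAction G V := MulAction.compHom _ Q.ψ
  set K : Subgroup G := MulAction.stabilizer G x
  have hKmem : ∀ g, g ∈ K ↔ Q.ψ g x = x := fun g => Iff.rfl
  have hVK : pCore 2 G ≤ K := fun v hv => by rw [hKmem, (Q.ker v).2 hv]; rfl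
  have hnearK : Subgroup.closure (near D d) ≤ K := by
    rw [Subgroup.closure_le]
    rintro b ⟨hb, hc⟩
    obtain ⟨u, hu, hu0, hbu⟩ := Q.centre b hb
    rw [SetLike.mem_coe, hKmem, hbu, tvu_apply, hS.isRefl _ _ ((Q.comm d b x u hx hu hd hb hdx hbu).1 hc),
      zero_smul, add_zero]
  have hcen : ∀ g ∈ K, Commute (Q.ψ d) (Q.ψ g) := by
    intro g hg
    rw [hdx]
    have h := tvu_conj hK (Q.mem g) hx
    rw [tvu_congr hK _ hx ((hKmem g).1 hg)] at h
    exact (mul_inv_eq_iff_eq_mul.1 h).symm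
  set H := Subgroup.closure (near D d) ⊔ pairs D
  set H' := H ⊔ Subgroup.closure {z : G | ∃ v ∈ pCore 2 G, z = v * v}
  have hsqV : ∀ v ∈ pCore 2 G, v * v ∈ H' := fun v hv =>
    Subgroup.mem_sup_right (Subgroup.subset_closure ⟨v, hv, rfl⟩)
  have hC_le : Subgroup.closure {z : G | ∃ v ∈ pCore 2 G, z = v * v} ≤ pCore 2 G := by
    rw [Subgroup.closure_le]
    rintro _ ⟨v, hv, rfl⟩
    exact mul_mem hv hv
  have hH'K : H' ≤ K := sup_le (sup_le hnearK ((pairs_le S).trans hVK)) (hC_le.trans hVK)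
  have hHnorm : ∀ g ∈ K, ∀ h ∈ H, g * h * g⁻¹ ∈ H := by
    intro g hg h hh
    obtain ⟨a, ha, b, hb, rfl⟩ := Subgroup.mem_sup_of_normal_right.1 hh
    have e : g * (a * b) * g⁻¹ = g * a * g⁻¹ * (g * b * g⁻¹) := by group
    rw [e]
    refine mul_mem (Subgroup.mem_sup_left ?_) (Subgroup.mem_sup_right (Subgroup.Normal.conj_mem inferInstance b hb g))
    clear e hh hb
    induction ha using Subgroup.closure_induction with
    | mem u hu =>
      refine Subgroup.subset_closure ⟨hD.conj g u hu.1, ?_⟩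
      obtain ⟨p, hp, -, hup⟩ := Q.centre u hu.1
      have hgp : B (Q.ψ g p) (Q.ψ g p) = 0 := by rw [Q.mem g p p, hp]
      refine (Q.comm d _ x (Q.ψ g p) hx hgp hd (hD.conj g u hu.1) hdx ?_).2 ?_
      · rw [map_mul, map_mul, map_inv, hup, tvu_conj hK (Q.mem g)]
      · rw [← (hKmem g).1 hg, Q.mem g x p]
        exact (Q.comm d u x p hx hp hd hu.1 hdx hup).1 hu.2
    | one => simp
    | mul u v _ _ iu iv => simpa [mul_assoc] using mul_mem iu iv
    | inv u _ iu => simpa [mul_assoc] using inv_mem iu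
  have hH'norm : ∀ g ∈ K, ∀ h ∈ H', g * h * g⁻¹ ∈ H' := by
    intro g hg h hh
    have hle : H' ≤ H'.comap (MulAut.conj g).toMonoidHom := by
      refine sup_le (fun u hu => Subgroup.mem_sup_left (hHnorm g hg u hu)) ((Subgroup.closure_le _).2 ?_)
      rintro _ ⟨v, hv, rfl⟩
      have := hsqV _ (Subgroup.Normal.conj_mem inferInstance v hv g)
      simpa [mul_assoc] using this
    exact hle hh
  -- squares of the stabilizer
  have hgen : ∀ g ∈ K, g * g ∈ H' := by
    intro k hk
    obtain ⟨a, ha, b, hb, hab⟩ := Five.stabilizer hK hS hND h5 hx hx0 (Q.mem k) (Q.det k) ((hKmem k).1 hk)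
    obtain ⟨a', ha', rfl⟩ := Q.side_le hd hx hdx ha
    obtain ⟨b', hb', rfl⟩ := Q.side_le hd hx hdx hb
    have haK := hnearK ha'
    have hbK := hnearK hb'
    obtain ⟨r, hr, hrr⟩ : ∃ r, Q.ψ r = Q.ψ a' * Q.ψ k * Q.ψ b' ∧ r * r ∈ H' := by
      rcases hab with h1 | ⟨w, p, p', hw, hw0, hxw, hG, hsq⟩
      · exact ⟨1, by rw [h1, map_one], by simp⟩
      have hiso : ∀ {u : V}, B u u = 0 → B u w = 0 → B (u + w) (u + w) = 0 := fun {u} h h' => by
        simp [h, h', hS.isRefl _ _ h', hw]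
      have hne : ∀ {u : V}, B x u ≠ 0 → u ≠ 0 ∧ u + w ≠ 0 := fun {u} h =>
        ⟨fun h0 => h (by rw [h0, map_zero]), fun h0 => h (by
          have := congrArg (B x) h0
          rwa [map_add, hxw, add_zero, map_zero] at this)⟩
      obtain ⟨d1, hd1, e1⟩ := Q.every p hG.pp (hne hG.xp).1
      obtain ⟨d2, hd2, e2⟩ := Q.every (p + w) (hiso hG.pp hG.pw) (hne hG.xp).2
      obtain ⟨d3, hd3, e3⟩ := Q.every p' hG.pp' (hne hG.xp').1
      obtain ⟨d4, hd4, e4⟩ := Q.every (p' + w) (hiso hG.pp' hG.pw') (hne hG.xp').2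
      have hψr : Q.ψ (d1 * d2 * (d3 * d4)) = Q.ψ a' * Q.ψ k * Q.ψ b' := by
        rw [map_mul, map_mul, map_mul, e1, e2, e3, e4]
        exact (hG.def_ _ _ _ _).symm
      refine ⟨_, hψr, ?_⟩
      have hA : Commute d1 d2 := (Q.comm d1 d2 p (p + w) hG.pp (hiso hG.pp hG.pw) hd1 hd2 e1 e2).2
        (by rw [map_add, hG.pp, hG.pw, add_zero])
      set A := d1 * d2
      have hAinv : A⁻¹ = A := by
        rw [_root_.mul_inv_rev, inv_eq hD hd1, inv_eq hD hd2]
        exact hA.eq.symm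
      have hψA : ∀ v, Q.ψ A v = v + B p v • w + B w v • (p + w) := by
        intro v
        rw [map_mul, e1, e2, LinearEquiv.mul_apply, tvu_apply, tvu_apply]
        have hpq : B p (p + w) = 0 := by rw [map_add, hG.pp, hG.pw, add_zero]
        rw [map_add B, LinearMap.add_apply, map_add, map_smul, hpq, smul_zero, add_zero]
        calc v + (B p v + B w v) • (p + w) + B p v • p
            = v + B p v • w + B w v • (p + w) + (B p v • p + B p v • p) := by module
          _ = _ := by rw [Five.double hK hS, add_zero]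
      set X := (A * d3 * A⁻¹) * (A * d4 * A⁻¹) * (d3 * d4) with hXdef
      have hX : A * (d3 * d4) * (A * (d3 * d4)) = X := by
        simp only [hXdef]
        nth_rw 2 [← hAinv]
        group
      rw [hX]
      -- the member moving the centres into the side
      have hxp' := hG.xp'
      obtain ⟨o, ho⟩ : ∃ o, o = B x p' := ⟨_, rfl⟩
      have ho' : σ o * o = 1 := by rw [hK.sq]; exact hK.cube o (ho ▸ hxp')
      have hp'x : B p' x = σ o := by rw [ho, hS.eq]
      obtain ⟨c, hc⟩ : ∃ c, c = p' + o • x := ⟨_, rfl⟩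
      have hcc : B c c = 0 := by
        simp only [hc, map_add, LinearMap.add_apply, LinearMap.map_smulₛₗ, LinearMap.smul_apply, map_smul,
          smul_eq_mul, RingHom.id_apply, hG.pp', hx, hp'x, ← ho, mul_zero, add_zero, zero_add]
        linear_combination 2 * ho' + hK.two
      have hc0 : c ≠ 0 := fun h => hxp' (by
        have := congrArg (B x) h
        rwa [hc, map_add, map_smul, hx, smul_zero, add_zero, map_zero] at this)
      obtain ⟨e, he, ec⟩ := Q.every c hcc hc0
      have hcw : B c w = 0 := by simp [hc, hG.pw', hxw]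
      have hcp : B c p' = 1 := by
        simp only [hc, map_add, LinearMap.add_apply, LinearMap.map_smulₛₗ, LinearMap.smul_apply, smul_eq_mul,
          hG.pp', ← ho, zero_add]
        exact ho'
      have hmove : ∀ (b : G) (u : V) (hu : B u u = 0), b ∈ D → Q.ψ b = tvu hK hu →
          (∃ l : F, u = p' + l • w) → e * b * e⁻¹ ∈ near D d := by
        rintro b u hu hbD hbu ⟨l, hl⟩
        refine ⟨hD.conj e b hbD, ?_⟩
        have hu' : B (Q.ψ e u) (Q.ψ e u) = 0 := by rw [Q.mem e u u, hu]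
        refine (Q.comm d _ x (Q.ψ e u) hx hu' hd (hD.conj e b hbD) hdx ?_).2 ?_
        · rw [map_mul, map_mul, map_inv, hbu, tvu_conj hK (Q.mem e)]
        · rw [ec, tvu_apply, hl, map_add (B c), map_smul, hcp, hcw, smul_zero, add_zero, one_smul, hc]
          have e' : p' + l • w + (p' + o • x) = (p' + p') + (l • w + o • x) := by abel
          rw [e', Five.double hK hS, zero_add, map_add, map_smul, map_smul, hxw, hx, smul_zero, smul_zero, add_zero]
      have hAu : ∀ {u : V}, B w u = 0 → Q.ψ A u = u + B p u • w := fun {u} hu => by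
        rw [hψA, hu, zero_smul, add_zero]
      have hw4 : B w (p' + w) = 0 := by rw [map_add, hS.isRefl _ _ hG.pw', hw, add_zero]
      have hX' : e * X * e⁻¹ ∈ Subgroup.closure (near D d) := by
        have e' : e * X * e⁻¹ = (e * (A * d3 * A⁻¹) * e⁻¹) * (e * (A * d4 * A⁻¹) * e⁻¹) *
            ((e * d3 * e⁻¹) * (e * d4 * e⁻¹)) := by simp only [hXdef]; group
        rw [e']
        refine mul_mem (mul_mem ?_ ?_) (mul_mem ?_ ?_) <;> apply Subgroup.subset_closure
        · refine hmove _ (Q.ψ A p') (by rw [Q.mem A p' p', hG.pp']) (hD.conj A d3 hd3) ?_ ⟨B p p', ?_⟩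
          · rw [map_mul (Q.ψ) (A * d3), map_mul, map_inv, e3, tvu_conj hK (Q.mem A)]
          · rw [hAu (hS.isRefl _ _ hG.pw')]
        · refine hmove _ (Q.ψ A (p' + w)) (by rw [Q.mem A _ _]; exact hiso hG.pp' hG.pw') (hD.conj A d4 hd4) ?_
            ⟨1 + B p p', ?_⟩
          · rw [map_mul (Q.ψ) (A * d4), map_mul, map_inv, e4, tvu_conj hK (Q.mem A)]
          · rw [hAu hw4, map_add, hG.pw, add_zero, add_smul, one_smul, add_assoc]
        · exact hmove _ p' hG.pp' hd3 e3 ⟨0, by rw [zero_smul, add_zero]⟩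
        · exact hmove _ (p' + w) _ hd4 e4 ⟨1, by rw [one_smul]⟩
      have hψX : Q.ψ X = tvu hK hw := by rw [← hX, map_mul, hψr, hsq]
      obtain ⟨dw, hdwD, edw⟩ := Q.every w hw hw0
      obtain ⟨v, hv, hXv⟩ : ∃ v ∈ pCore 2 G, X = dw * v := by
        refine ⟨dw⁻¹ * X, (Q.ker _).1 ?_, (mul_inv_cancel_left _ _).symm⟩
        rw [map_mul, map_inv, edw, hψX, inv_mul_cancel]
      have hedw : Commute e dw := (Q.comm e dw c w hcc hw he hdwD ec edw).2 hcw
      have hconj : e * X * e⁻¹ * X⁻¹ ∈ pairs D := by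
        have e' : e * X * e⁻¹ * X⁻¹ = (e * dw * e⁻¹) * (e * v * e⁻¹ * v⁻¹) * dw⁻¹ := by rw [hXv]; group
        rw [e', hedw.eq, mul_inv_cancel_right]
        exact Subgroup.Normal.conj_mem inferInstance _ (commutator_mem S hv he) dw
      have := mul_mem (inv_mem (Subgroup.mem_sup_right (S := Subgroup.closure (near D d)) hconj))
        (Subgroup.mem_sup_left (T := pairs D) hX')
      simp only [_root_.mul_inv_rev, inv_inv, inv_mul_cancel_right] at this
      refine Subgroup.mem_sup_left ?_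
      simpa [mul_assoc] using this
    -- `k` is congruent to `r`
    obtain ⟨v, hv, hkv⟩ : ∃ v ∈ pCore 2 G, a' * k * b' = r * v := by
      refine ⟨r⁻¹ * (a' * k * b'), (Q.ker _).1 ?_, (mul_inv_cancel_left _ _).symm⟩
      rw [map_mul, map_inv, hr, map_mul, map_mul, inv_mul_cancel]
    have hrK : r ∈ K := by
      have := mul_mem (mul_mem (mul_mem haK hk) hbK) (inv_mem (hVK hv))
      rwa [hkv, mul_inv_cancel_right] at this
    let N := H'.subgroupOf K
    haveI hN : N.Normal := ⟨fun h hh g => by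
      rw [Subgroup.mem_subgroupOf] at hh ⊢
      exact hH'norm g g.2 h hh⟩
    have hone : ∀ u (hu : u ∈ K), u ∈ H' → (QuotientGroup.mk (⟨u, hu⟩ : K) : K ⧸ N) = 1 := fun u hu h' =>
      (QuotientGroup.eq_one_iff _).2 h'
    have hcomm : Commute (QuotientGroup.mk (⟨r, hrK⟩ : K) : K ⧸ N) (QuotientGroup.mk (⟨v, hVK hv⟩ : K)) := by
      refine QuotientGroup.eq.2 ?_
      show (r * v)⁻¹ * (v * r) ∈ H'
      have h1 := Subgroup.Normal.conj_mem inferInstance _ (commutator_mem_all S hv r⁻¹) v⁻¹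
      refine Subgroup.mem_sup_left (Subgroup.mem_sup_right ?_)
      convert h1 using 1
      group
    have hk' : (QuotientGroup.mk (⟨k, hk⟩ : K) : K ⧸ N) =
        QuotientGroup.mk (⟨r, hrK⟩ : K) * QuotientGroup.mk (⟨v, hVK hv⟩ : K) := by
      have h1 : (⟨a', haK⟩ : K) * ⟨k, hk⟩ * ⟨b', hbK⟩ = ⟨r, hrK⟩ * ⟨v, hVK hv⟩ := Subtype.ext hkv
      have h2 := congrArg (QuotientGroup.mk' N) h1
      simp only [map_mul, QuotientGroup.mk'_apply, hone a' haK (Subgroup.mem_sup_left (Subgroup.mem_sup_left ha')),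
        hone b' hbK (Subgroup.mem_sup_left (Subgroup.mem_sup_left hb')), one_mul, mul_one] at h2
      exact h2
    have hkk : ((QuotientGroup.mk (⟨k, hk⟩ : K)) : K ⧸ N) * QuotientGroup.mk (⟨k, hk⟩ : K) = 1 := by
      have hrr' : (QuotientGroup.mk (⟨r, hrK⟩ : K) : K ⧸ N) * QuotientGroup.mk (⟨r, hrK⟩ : K) = 1 :=
        hone _ (K.mul_mem hrK hrK) hrr
      have hvv' : (QuotientGroup.mk (⟨v, hVK hv⟩ : K) : K ⧸ N) * QuotientGroup.mk (⟨v, hVK hv⟩ : K) = 1 :=
        hone _ (K.mul_mem (hVK hv) (hVK hv)) (hsqV v hv)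
      rw [hk', hcomm.symm.mul_mul_mul_comm, hrr', hvv', one_mul]
    have hN2 : (⟨k, hk⟩ : K) * ⟨k, hk⟩ ∈ N := (QuotientGroup.eq_one_iff _).1 ((QuotientGroup.mk_mul N _ _).trans hkk)
    exact hN2
  have habel : ∀ u ∈ K, ∀ v ∈ K, u * v * u⁻¹ * v⁻¹ ∈ H' := by
    intro u hu v hv
    have h1 := hgen _ (mul_mem hu hv)
    have h2 := hH'norm _ (inv_mem hv) _ (inv_mem (hgen u hu))
    have h3 := inv_mem (hgen v hv)
    have := mul_mem (mul_mem h1 h2) h3
    simpa [mul_assoc] using this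
  have hcen' : ∀ g ∈ K, Commute (QuotientGroup.mk' (pCore 2 G) d) (QuotientGroup.mk' (pCore 2 G) g) := by
    intro g hg
    show QuotientGroup.mk' (pCore 2 G) d * QuotientGroup.mk' (pCore 2 G) g = _
    rw [← map_mul, ← map_mul]
    refine QuotientGroup.eq.2 ((Q.ker _).1 ?_)
    rw [map_mul, map_inv, map_mul, map_mul, (hcen g hg).eq, inv_mul_cancel]
  have hVH' : pCore 2 G ≤ H' := core_le S hd H' K (le_sup_left.trans le_sup_left) (le_sup_right.trans le_sup_left)
    hH'K hVK (hodd.of_dvd_nat (Q.index_dvd hS hND (by omega) K hVK hx hx0 fun g hg hgd hgx => by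
      obtain ⟨u, hu⟩ := Q.surj g hg hgd
      exact ⟨u, (hKmem u).2 (hu ▸ hgx), hu⟩)) hcen' habel
  -- every element of the core is a square modulo `H`
  let W : Subgroup G := H ⊓ pCore 2 G
  let N := W.subgroupOf (pCore 2 G)
  haveI hN : N.Normal := ⟨fun h hh g => by
    rw [Subgroup.mem_subgroupOf] at hh ⊢
    exact ⟨hHnorm g (hVK g.2) _ hh.1, Subgroup.Normal.conj_mem inferInstance _ hh.2 _⟩⟩
  let π : ↥(pCore 2 G) →* ↥(pCore 2 G) ⧸ N := QuotientGroup.mk' N
  have hcommV : ∀ u v : ↥(pCore 2 G), Commute (π u) (π v) := fun u v => by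
    refine QuotientGroup.eq.2 ?_
    show ((u : G) * v)⁻¹ * (v * u) ∈ W
    have h1 := commutator_mem_all S (inv_mem u.2) (v : G)⁻¹
    refine Subgroup.mem_inf.2 ⟨Subgroup.mem_sup_right ?_, mul_mem (inv_mem (mul_mem u.2 v.2)) (mul_mem v.2 u.2)⟩
    simpa [mul_assoc] using h1
  have hsq : ∀ v : ↥(pCore 2 G), ∃ u, π v = π u * π u := by
    intro v
    haveI hHn : (H.subgroupOf K).Normal := ⟨fun h hh g => by
      rw [Subgroup.mem_subgroupOf] at hh ⊢
      exact hHnorm g g.2 _ hh⟩
    have hCn : Subgroup.closure {z : G | ∃ v ∈ pCore 2 G, z = v * v} ≤ Subgroup.normalizer (H : Set G) :=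
      fun c hc => Subgroup.mem_normalizer_fintype fun h hh => hHnorm c (hVK (hC_le hc)) h hh
    have hv : (v : G) ∈ ((H : Set G) * (Subgroup.closure {z : G | ∃ v ∈ pCore 2 G, z = v * v} : Set G)) := by
      rw [← Subgroup.coe_mul_of_right_le_normalizer_left _ _ hCn]
      exact hVH' v.2
    obtain ⟨h, hh, c, hc, hhc⟩ := Set.mem_mul.1 hv
    obtain ⟨u, hu⟩ : ∃ u, π ⟨c, hC_le hc⟩ = π u * π u := by
      clear hhc hv
      induction hc using Subgroup.closure_induction with
      | mem z hz =>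
        obtain ⟨y, hy, rfl⟩ := hz
        exact ⟨⟨y, hy⟩, map_mul π ⟨y, hy⟩ ⟨y, hy⟩⟩
      | one => exact ⟨1, by simp [show (⟨1, _⟩ : ↥(pCore 2 G)) = 1 from rfl]⟩
      | mul a b ha hb iha ihb =>
        obtain ⟨u1, e1⟩ := iha
        obtain ⟨u2, e2⟩ := ihb
        refine ⟨u1 * u2, ?_⟩
        rw [show (⟨a * b, _⟩ : ↥(pCore 2 G)) = ⟨a, hC_le ha⟩ * ⟨b, hC_le hb⟩ from rfl, map_mul, e1, e2,
          map_mul, (hcommV u1 u2).mul_mul_mul_comm]
      | inv a ha iha =>
        obtain ⟨u1, e1⟩ := iha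
        refine ⟨u1⁻¹, ?_⟩
        rw [show (⟨a⁻¹, _⟩ : ↥(pCore 2 G)) = ⟨a, hC_le ha⟩⁻¹ from rfl, map_inv, e1, map_inv, mul_inv_rev]
    refine ⟨u, ?_⟩
    rw [← hu]
    have hhV : h ∈ pCore 2 G := by
      have := mul_mem v.2 (inv_mem (hC_le hc))
      rwa [← hhc, mul_inv_cancel_right] at this
    rw [show v = ⟨h, hhV⟩ * ⟨c, hC_le hc⟩ from Subtype.ext hhc.symm, map_mul,
      show π ⟨h, hhV⟩ = 1 from (QuotientGroup.eq_one_iff _).2 ⟨hh, hhV⟩, one_mul]
  have hiter : ∀ (j : ℕ) (v : ↥(pCore 2 G)), ∃ u, π v = π u ^ 2 ^ j := by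
    intro j
    induction j with
    | zero => exact fun v => ⟨v, by simp⟩
    | succ j ih =>
      intro v
      obtain ⟨u, hu⟩ := ih v
      obtain ⟨w, hw⟩ := hsq u
      exact ⟨w, by rw [hu, hw, ← pow_two, ← pow_mul, pow_succ']⟩
  intro v hv
  obtain ⟨j, hj⟩ := IsPGroup.iff_card.1 (Lib.Core.pCore_isPGroup 2 G)
  obtain ⟨u, hu⟩ := hiter j ⟨v, hv⟩
  have h1 : π ⟨v, hv⟩ = 1 := by
    rw [hu, ← map_pow, ← hj, pow_card_eq_one', map_one]
  exact ((QuotientGroup.eq_one_iff _).1 h1).1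

end Cfsg.Lib.Fischer.RadicalAbelian
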