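import Cfsg.Agent.Lib.Fischer.RadicalAbelian.Complement
import Cfsg.Agent.Lib.Fischer.RadicalAbelian.DimFive

/-!
# The twisting element in degree five

For a unit vector `m` the element scaling the perpendicular of `m` by a cube root of unity is twisting.
-/

set_option autoImplicit false
set_option linter.style.haveILetI false
set_option linter.unusedSectionVars false

namespace Cfsg.Lib.Fischer.RadicalAbelian

open Module Cfsg Cfsg.Lib.Fischer Cfsg.Lib.Linear.Herm Cfsg.Agent.S1631 Cfsg.Lib.Fischer.UniqueClass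

namespace Five

section Space

variable {F V : Type*} [Field F] [Fintype F] [AddCommGroup V] [Module F V] [FiniteDimensional F V]
  {σ : F →+* F} {B : V →ₛₗ[σ] V →ₗ[F] F}

/-- Pairwise perpendicular unit vectors. -/
def Orth (B : V →ₛₗ[σ] V →ₗ[F] F) {k : ℕ} (e : Fin k → V) : Prop := ∀ i j, B (e i) (e j) = if i = j then 1 else 0

variable (hK : FourField F σ) (hS : B.IsSymm) (hB : B.Nondegenerate) (h5 : finrank F V = 5)
include hK hS hB h5

theorem exists_unit_orth {k : ℕ} (hk : k < 5) {e : Fin k → V} (he : Orth B e) :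
    ∃ u, B u u = 1 ∧ ∀ i, B (e i) u = 0 := by
  let f : V →ₗ[F] Fin k → F := LinearMap.pi fun i => B (e i)
  obtain ⟨u, hu, hu0⟩ : ∃ u ∈ LinearMap.ker f, u ≠ 0 := by
    refine Submodule.exists_mem_ne_zero_of_ne_bot fun hbot => ?_
    have h1 := LinearMap.finrank_range_add_finrank_ker f
    have h2 := Submodule.finrank_le (LinearMap.range f)
    rw [finrank_fin_fun] at h2
    rw [hbot, finrank_bot] at h1
    omega
  have hf : ∀ v, v ∈ LinearMap.ker f ↔ ∀ i, B (e i) v = 0 := fun v => by simp [f, funext_iff]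
  by_contra hcon
  push Not at hcon
  have h0 : ∀ v ∈ LinearMap.ker f, B v v = 0 := fun v hv =>
    (fixed_cases hK (hS.eq v v)).resolve_right fun h => by
      obtain ⟨i, hi⟩ := hcon v h
      exact hi ((hf v).1 hv i)
  refine hu0 (hB.1 u fun v => ?_)
  obtain ⟨r, hr⟩ : ∃ r, r = v - ∑ i, B (e i) v • e i := ⟨_, rfl⟩
  have hrk : r ∈ LinearMap.ker f := (hf r).2 fun j => by
    simp [hr, map_sum, map_smul, he j]
  have hur : B u r = 0 := by
    obtain ⟨o, ho, -, -⟩ := exists_omega hK hS
    have key : ∀ c : F, σ c * B r u + c * B u r = 0 := fun c => by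
      have h := h0 _ (add_mem hu (Submodule.smul_mem _ c hrk))
      simp only [map_add, LinearMap.add_apply, LinearMap.map_smulₛₗ, LinearMap.smul_apply, map_smul,
        smul_eq_mul, RingHom.id_apply, h0 u hu, h0 r hrk, mul_zero, add_zero, zero_add] at h
      linear_combination h
    have h1 := key 1
    rw [map_one, one_mul, one_mul] at h1
    linear_combination key o - σ o * h1 - B u r * ho + σ o * B u r * hK.two
  rw [hr, map_sub, map_sum] at hur
  simpa [map_smul, hS.isRefl _ _ ((hf u).1 hu _)] using hur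

theorem orth_snoc {k : ℕ} {e : Fin k → V} (he : Orth B e) {u : V} (hu : B u u = 1)
    (hp : ∀ i, B (e i) u = 0) : Orth B (Fin.snoc e u : Fin (k + 1) → V) := by
  intro i j
  refine Fin.lastCases ?_ (fun i => ?_) i <;> refine Fin.lastCases ?_ (fun j => ?_) j
  · simp [hu]
  · simp [hS.isRefl _ _ (hp j), (Fin.castSucc_lt_last j).ne']
  · simp [hp i, (Fin.castSucc_lt_last i).ne]
  · simp [he i j]

theorem orth_single {m : V} (hm : B m m = 1) : Orth B (![m] : Fin 1 → V) := fun i j => by
  fin_cases i; fin_cases j; simpa using hm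

/-- Two perpendicular unit vectors extend to five. -/
theorem exists_orth {m n : V} (hm : B m m = 1) (hn : B n n = 1) (hmn : B m n = 0) :
    ∃ e : Fin 5 → V, Orth B e ∧ e 0 = m ∧ e 1 = n := by
  have h2 : Orth B (Fin.snoc ![m] n : Fin 2 → V) :=
    orth_snoc hK hS hB h5 (orth_single hK hS hB h5 hm) hn fun i => by fin_cases i; simpa using hmn
  obtain ⟨a, ha, pa⟩ := exists_unit_orth hK hS hB h5 (by omega) h2
  have h3 := orth_snoc hK hS hB h5 h2 ha pa
  obtain ⟨b, hb, pb⟩ := exists_unit_orth hK hS hB h5 (by omega) h3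
  have h4 := orth_snoc hK hS hB h5 h3 hb pb
  obtain ⟨c, hc, pc⟩ := exists_unit_orth hK hS hB h5 (by omega) h4
  exact ⟨_, orth_snoc hK hS hB h5 h4 hc pc, rfl, rfl⟩

omit hS hB in
theorem orth_basis {e : Fin 5 → V} (he : Orth B e) : ∃ b : Basis (Fin 5) F V, ∀ i, b i = e i := by
  have hli : LinearIndependent F e := by
    rw [Fintype.linearIndependent_iff]
    intro g hg i
    have := congrArg (B (e i)) hg
    simpa [map_sum, map_smul, he i] using this
  exact ⟨basisOfLinearIndependentOfCardEqFinrank hli (by simp [h5]), fun i => by simp⟩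

theorem orth_ext {W : Type*} [AddCommMonoid W] [Module F W] {e : Fin 5 → V} (he : Orth B e)
    {f g : V →ₗ[F] W} (h : ∀ i, f (e i) = g (e i)) : f = g := by
  obtain ⟨b, hb⟩ := orth_basis hK h5 he
  exact b.ext fun i => by rw [hb, h]

theorem orth_repr {e : Fin 5 → V} (he : Orth B e) (v : V) : ∑ i, B (e i) v • e i = v := by
  have h : (∑ i, (B (e i)).smulRight (e i)) = LinearMap.id := orth_ext hK hS hB h5 he fun j => by
    simp [he _ j]
  simpa using LinearMap.congr_fun h v

variable {o : F}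

omit hB h5 in
/-- A transvection exchanging two perpendicular unit vectors. -/
theorem swap {a b : V} (ha : B a a = 1) (hb : B b b = 1) (hab : B a b = 0) {l : F} (hl : σ l * l = 1) :
    ∃ h : B (a + l • b) (a + l • b) = 0, a + l • b ≠ 0 ∧ tvu hK h a = l • b ∧ tvu hK h b = σ l • a ∧
      ∀ c, B a c = 0 → B b c = 0 → tvu hK h c = c := by
  have hba := hS.isRefl _ _ hab
  have h : B (a + l • b) (a + l • b) = 0 := by
    simp only [map_add, LinearMap.add_apply, LinearMap.map_smulₛₗ, LinearMap.smul_apply, map_smul,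
      smul_eq_mul, RingHom.id_apply, ha, hb, hab, hba, mul_zero, mul_one, add_zero, zero_add]
    linear_combination hl + hK.two
  refine ⟨h, fun h0 => ?_, ?_, ?_, fun c hac hbc => ?_⟩
  · have := congrArg (B a) h0
    simp [ha, hab] at this
  · rw [tvu_apply, map_add, LinearMap.add_apply, LinearMap.map_smulₛₗ, LinearMap.smul_apply, ha, hba,
      smul_zero, add_zero, one_smul, ← add_assoc, double hK hS, zero_add]
  · rw [tvu_apply, map_add, LinearMap.add_apply, LinearMap.map_smulₛₗ, LinearMap.smul_apply, hb, hab,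
      smul_eq_mul, mul_one, zero_add, smul_add, smul_smul, hl, one_smul, add_left_comm, double hK hS, add_zero]
  · rw [tvu_apply, map_add, LinearMap.add_apply, LinearMap.map_smulₛₗ, LinearMap.smul_apply, hac, hbc,
      smul_zero, add_zero, zero_smul, add_zero]

omit hB in
/-- The special isometry scaling the perpendicular of `m`. -/
theorem exists_zeta {m : V} (hm : B m m = 1) (ho : o + σ o = 1) (hno : σ o * o = 1) :
    ∃ g ∈ iso B, LinearEquiv.det g = 1 ∧ ∀ v, g v = o • v + B m v • m := by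
  have ho0 : o ≠ 0 := by rintro rfl; simp at hno
  have hl : σ o + σ (σ o) + σ (σ o) * σ o * B m m = 0 := by
    rw [hK.invol, hm]; linear_combination ho + hno + hK.two
  obtain ⟨S, hS'⟩ : ∃ S : V ≃ₗ[F] V, S = LinearEquiv.smulOfUnit (Units.mk0 o ho0) := ⟨_, rfl⟩
  have hSa : ∀ v, S v = o • v := fun v => by rw [hS']; rfl
  have hg : ∀ v, (S * qrefl (B := B) m (σ o) hl) v = o • v + B m v • m := fun v => by
    rw [LinearEquiv.mul_apply, qrefl_apply, hSa, smul_add, smul_smul, ← mul_assoc, mul_comm o, hno, one_mul]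
  refine ⟨_, fun a b => ?_, ?_, hg⟩
  · simp only [hg, map_add, LinearMap.add_apply, LinearMap.map_smulₛₗ, LinearMap.smul_apply, map_smul,
      smul_eq_mul, RingHom.id_apply, hm, hS.eq m a]
    linear_combination B a b * hno + B a m * B m b * ho + B a m * B m b * hK.two
  · apply Units.ext
    rw [map_mul, Units.val_mul, det_qrefl, hm, mul_one, Units.val_one, LinearEquiv.coe_det]
    have : (S : V →ₗ[F] V) = o • LinearMap.id := LinearMap.ext fun v => hSa v
    rw [this, LinearMap.det_smul, LinearMap.det_id, h5, mul_one]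
    have h3 : o * o * o = 1 := hK.cube o ho0
    have h2 : σ o = o * o := hK.sq o
    linear_combination o * (1 + σ o) * o * h3 + o * h3 + (o * o * h2) - h2 + ho

omit hB in
/-- Two transvections acting diagonally on a pair. -/
theorem diag {a b : V} (ha : B a a = 1) (hb : B b b = 1) (hab : B a b = 0) {l : F} (hl : σ l * l = 1) :
    ∃ (h : B (a + l • b) (a + l • b) = 0) (h' : B (a + b) (a + b) = 0), a + l • b ≠ 0 ∧ a + b ≠ 0 ∧
      (tvu hK h * tvu hK h') a = σ l • a ∧ (tvu hK h * tvu hK h') b = l • b ∧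
      ∀ c, B a c = 0 → B b c = 0 → (tvu hK h * tvu hK h') c = c := by
  obtain ⟨h, h0, ea, eb, ec⟩ := swap hK hS ha hb hab hl
  obtain ⟨h', h0', ea', eb', ec'⟩ := swap hK hS ha hb hab (l := 1) (by rw [map_one, one_mul])
  have e1 : a + (1 : F) • b = a + b := by rw [one_smul]
  replace ea' := ea'.trans (one_smul F b)
  replace eb' := eb'.trans (show σ (1 : F) • a = a by rw [map_one, one_smul])
  refine ⟨h, e1 ▸ h', h0, e1 ▸ h0', ?_, ?_, fun c hac hbc => ?_⟩ <;>
    rw [LinearEquiv.mul_apply, ← tvu_congr hK h' (e1 ▸ h') e1]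
  · rw [ea', eb]
  · rw [eb', ea]
  · rw [ec' c hac hbc, ec c hac hbc]

omit hB in
theorem perp_comb {x a b : V} (ha : B x a = 0) (hb : B x b = 0) (c : F) : B x (a + c • b) = 0 := by
  rw [map_add, map_smul, ha, hb, smul_zero, add_zero]

end Space

end Five

open Five

variable {G : Type*} [Group G] [Finite G] {D : Set G} {F V : Type*} [Field F] [Fintype F] [AddCommGroup V]
  [Module F V] [FiniteDimensional F V] {σ : F →+* F} {hK : FourField F σ} {B : V →ₛₗ[σ] V →ₗ[F] F}

namespace Quot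

variable (Q : Quot D hK B)

theorem red_iff {a b : G} : red a = red b ↔ Q.ψ a = Q.ψ b := by
  constructor
  · intro h
    have := (Q.ker _).2 (QuotientGroup.eq.1 h)
    rwa [map_mul, map_inv, inv_mul_eq_one] at this
  · intro h
    refine QuotientGroup.eq.2 ((Q.ker _).1 ?_)
    rw [map_mul, map_inv, h, inv_mul_cancel]

end Quot

include hK in
/-- A twisting element exists in degree five. -/
theorem exists_twist (Q : Quot D hK B) (hS : B.IsSymm) (hND : B.Nondegenerate) (h5 : finrank F V = 5)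
    (hD : Trans D) : ∃ z, Twist D z := by
  obtain ⟨o, ho, hno, ho0⟩ := exists_omega hK hS
  obtain ⟨m, hm, -⟩ := exists_unit_orth hK hS hND h5 (k := 0) (by omega) (e := Fin.elim0) (fun i => i.elim0)
  obtain ⟨g, hg, hgd, hga⟩ := exists_zeta hK hS h5 hm ho hno
  obtain ⟨z, hz⟩ := Q.surj g hg hgd
  refine ⟨z, ?_⟩
  have hσo : σ o = o * o := hK.sq o
  have hσo1 : σ o * σ o = o := by rw [hσo]; linear_combination o * hK.cube o ho0
  have himg : ∀ {d : G} {x : V} (hx : B x x = 0), Q.ψ d = tvu hK hx →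
      Q.ψ (z * d * z⁻¹) = tvu hK (show B (g x) (g x) = 0 by rw [hg, hx]) := fun {d x} hx hdx => by
    rw [map_mul, map_mul, map_inv, hz, hdx, tvu_conj hK hg]
  have hfix : ∀ {d : G} {x : V} (hx : B x x = 0), d ∈ D → Q.ψ d = tvu hK hx →
      (Fixed z d ↔ B m x = 0) := by
    intro d x hx hd hdx
    constructor
    · intro hf
      by_contra hne
      have hred : red (z * d * z⁻¹) = red d := by rw [map_mul, map_mul, map_inv, hf.eq, mul_inv_cancel_right]
      have hc := commute_of_mem_two hD hd (hD.conj z d hd) ((red_eq_iff hD hd).1 hred.symm)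
      have h0 := (Q.comm d _ x (g x) hx (by rw [hg, hx]) hd (hD.conj z d hd) hdx (himg hx hdx)).1 hc
      rw [hga, map_add, map_smul, map_smul, hx, smul_zero, zero_add, smul_eq_mul, ← hS.eq m x, hK.sq] at h0
      exact one_ne_zero (α := F) ((hK.cube _ hne).symm.trans (by linear_combination h0))
    · intro h0
      have hgx : g x = o • x := by rw [hga, h0, zero_smul, add_zero]
      show red z * red d = red d * red z
      rw [← map_mul, ← map_mul, Q.red_iff, map_mul, map_mul, hz, hdx, ← mul_inv_eq_iff_eq_mul,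
        tvu_conj hK hg, tvu_congr hK _ (show B (o • x) (o • x) = 0 by rw [map_smul, LinearMap.map_smulₛₗ,
          LinearMap.smul_apply, hx, smul_zero, smul_zero]) hgx, tvu_smul hK hx ho0]
  have hscale : ∀ {d : G}, d ∈ D → ¬ Fixed z d → ∃ n, B n n = 1 ∧ B m n = 0 ∧
      ∃ h : B (m + n) (m + n) = 0, Q.ψ d = tvu hK h := by
    intro d hd hf
    obtain ⟨x, hx, hx0, hdx⟩ := Q.centre d hd
    have hne : B m x ≠ 0 := fun h => hf ((hfix hx hd hdx).2 h)
    obtain ⟨x', hx'⟩ : ∃ x', x' = (B m x)⁻¹ • x := ⟨_, rfl⟩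
    have hx'x : B x' x' = 0 := by
      rw [hx', map_smul, LinearMap.map_smulₛₗ, LinearMap.smul_apply, hx, smul_zero, smul_zero]
    have hmx : B m x' = 1 := by rw [hx', map_smul, smul_eq_mul, inv_mul_cancel₀ hne]
    have hxm : B x' m = 1 := conj_one hK hS hmx
    have e : m + (x' + m) = x' := by rw [add_left_comm, double hK hS, add_zero]
    refine ⟨x' + m, ?_, ?_, by rw [e, hx'x], ?_⟩
    · simp only [map_add, LinearMap.add_apply, hx'x, hmx, hxm, hm]; linear_combination hK.two
    · rw [map_add, hmx, hm]; linear_combination hK.two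
    · rw [hdx, tvu_congr hK _ hx'x e]
      subst hx'
      exact (tvu_smul hK hx (inv_ne_zero hne) hx'x).symm
  refine ⟨?_, ?_, ?_⟩
  · -- the rotation
    intro p hp hf
    obtain ⟨n, hn, hmn, hx, hpx⟩ := hscale hp hf
    obtain ⟨e, he, he0, he1⟩ := exists_orth hK hS hND h5 hm hn hmn
    have hu : ∀ i, B (e i) (e i) = 1 := fun i => by rw [he i i, if_pos rfl]
    have hp0 : ∀ {i j}, i ≠ j → B (e i) (e j) = 0 := fun {i j} h => by rw [he i j, if_neg h]
    have hne : ∀ {i : Fin 5}, i ≠ 0 → i ≠ 1 → B m (e i) = 0 ∧ B n (e i) = 0 := fun {i} h0 h1 =>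
      ⟨he0 ▸ hp0 h0.symm, he1 ▸ hp0 h1.symm⟩
    have hl : σ (σ o) * σ o = 1 := by rw [hK.invol, mul_comm, hno]
    obtain ⟨ha, -, sa, sb, sc⟩ := swap hK hS hm hn hmn hl
    obtain ⟨hx', -, xa, xb, xc⟩ := swap hK hS hm hn hmn (l := 1) (by rw [map_one, one_mul])
    obtain ⟨a, haa⟩ : ∃ a, a = z * p * z⁻¹ := ⟨_, rfl⟩
    have haψ : Q.ψ a = tvu hK ha := by
      have hsc : σ o • (m + σ o • n) = g (m + n) := by
        rw [hga, map_add, hm, hmn, add_zero, one_smul, smul_add, smul_add, smul_smul, hσo1]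
        calc σ o • m + o • n = σ o • m + o • n + ((o + σ o) • m + m) + ((o + σ o) • m + m) := by
              rw [add_assoc _ ((o + σ o) • m + m), double hK hS, add_zero]
          _ = o • m + o • n + m + ((σ o • m + σ o • m) + (o + σ o) • m + m) := by module
          _ = _ := by rw [double hK hS, ho, one_smul, zero_add, double hK hS, add_zero]
      have hσo0 : σ o ≠ 0 := (map_ne_zero σ).2 ho0
      have h' : B (σ o • (m + σ o • n)) (σ o • (m + σ o • n)) = 0 := by
        rw [hsc, hg, hx]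
      rw [haa, himg hx hpx, ← tvu_congr hK h' _ hsc, tvu_smul hK ha hσo0 h']
    have hpψ : Q.ψ p = tvu hK hx' := by rw [hpx]; exact tvu_congr hK _ _ (by rw [one_smul])
    obtain ⟨u1, v1, u10, v10, a1, b1, c1⟩ := diag hK hS h5 (hu 2) (hu 3) (hp0 (by decide)) (l := σ o) hl
    obtain ⟨u2, v2, u20, v20, a2, b2, c2⟩ := diag hK hS h5 (hu 3) (hu 4) (hp0 (by decide)) (l := o) hno
    obtain ⟨d1, hd1, e1⟩ := Q.every _ u1 u10
    obtain ⟨d2, hd2, e2⟩ := Q.every _ v1 v10
    obtain ⟨d3, hd3, e3⟩ := Q.every _ u2 u20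
    obtain ⟨d4, hd4, e4⟩ := Q.every _ v2 v20
    have hmem : ∀ {d : G} {u : V} (hu : B u u = 0), d ∈ D → Q.ψ d = tvu hK hu → B m u = 0 → B n u = 0 →
        d ∈ Subgroup.closure {e | e ∈ D ∧ Commute p e ∧ Commute (z * p * z⁻¹) e} := by
      intro d u hu hd hdu h1 h2
      refine Subgroup.subset_closure ⟨hd, (Q.comm p d _ u hx' hu hp hd hpψ hdu).2 ?_, ?_⟩
      · simp [h1, h2]
      · rw [← haa]
        exact (Q.comm a d _ u ha hu (haa ▸ hD.conj z p hp) hd haψ hdu).2 (by simp [h1, h2])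
    refine ⟨d1 * d2 * (d3 * d4), ?_, ?_⟩
    · obtain ⟨m2, n2⟩ := hne (i := 2) (by decide) (by decide)
      obtain ⟨m3, n3⟩ := hne (i := 3) (by decide) (by decide)
      obtain ⟨m4, n4⟩ := hne (i := 4) (by decide) (by decide)
      exact mul_mem (mul_mem (hmem u1 hd1 e1 (perp_comb hK hS h5 m2 m3 _) (perp_comb hK hS h5 n2 n3 _))
          (hmem v1 hd2 e2 (by rw [map_add, m2, m3, add_zero]) (by rw [map_add, n2, n3, add_zero])))
        (mul_mem (hmem u2 hd3 e3 (perp_comb hK hS h5 m3 m4 _) (perp_comb hK hS h5 n3 n4 _))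
          (hmem v2 hd4 e4 (by rw [map_add, m3, m4, add_zero]) (by rw [map_add, n3, n4, add_zero])))
    rw [Q.red_iff, ← haa, hz]
    simp only [map_mul, hpψ, haψ, e1, e2, e3, e4]
    refine LinearEquiv.toLinearMap_injective (orth_ext hK hS hND h5 he fun i => ?_)
    show g (e i) = (tvu hK hx' * tvu hK ha * (tvu hK u1 * tvu hK v1 * (tvu hK u2 * tvu hK v2))) (e i)
    simp only [LinearEquiv.mul_apply] at a1 b1 c1 a2 b2 c2 ⊢
    have hb1 : ∀ {c : V}, B (e 2) c = 0 → B (e 3) c = 0 → B (e 4) c = 0 →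
        tvu hK u1 (tvu hK v1 (tvu hK u2 (tvu hK v2 c))) = c := fun h2 h3 h4 => by
      rw [c2 _ h3 h4, c1 _ h2 h3]
    have hout : ∀ {i : Fin 5}, i ≠ 0 → i ≠ 1 → ∀ c : F,
        tvu hK hx' (tvu hK ha (c • e i)) = c • e i := fun {i} h0 h1 c => by
      obtain ⟨q1, q2⟩ := hne h0 h1
      rw [map_smul, sc _ q1 q2, map_smul, xc _ q1 q2]
    have hgi : ∀ {i : Fin 5}, i ≠ 0 → g (e i) = o • e i := fun {i} h0 => by
      rw [hga, show B m (e i) = 0 from he0 ▸ hp0 h0.symm, zero_smul, add_zero]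
    fin_cases i
    · show g (e 0) = _
      rw [hb1 (hp0 (by decide)) (hp0 (by decide)) (hp0 (by decide)), hga]
      show o • e 0 + B m (e 0) • m = tvu hK hx' (tvu hK ha (e 0))
      rw [he0, sa, map_smul, xb, map_one, one_smul, hm, one_smul]
      calc o • m + m = o • m + (o + σ o) • m := by rw [ho, one_smul]
        _ = σ o • m + (o • m + o • m) := by module
        _ = σ o • m := by rw [double hK hS, add_zero]
    · show g (e 1) = _
      rw [hgi (by decide)]
      show o • e 1 = tvu hK hx' (tvu hK ha (tvu hK u1 (tvu hK v1 (tvu hK u2 (tvu hK v2 (e 1))))))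
      rw [hb1 (hp0 (by decide)) (hp0 (by decide)) (hp0 (by decide)), he1, sb, map_smul, hK.invol, xa, one_smul]
    · show g (e 2) = tvu hK hx' (tvu hK ha (tvu hK u1 (tvu hK v1 (tvu hK u2 (tvu hK v2 (e 2))))))
      rw [hgi (by decide), c2 _ (hp0 (by decide)) (hp0 (by decide)), a1, hK.invol, hout (by decide) (by decide)]
    · show g (e 3) = tvu hK hx' (tvu hK ha (tvu hK u1 (tvu hK v1 (tvu hK u2 (tvu hK v2 (e 3))))))
      rw [hgi (by decide), a2, map_smul (tvu hK v1), map_smul (tvu hK u1), b1, smul_smul, hσo1,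
        hout (by decide) (by decide)]
    · show g (e 4) = tvu hK hx' (tvu hK ha (tvu hK u1 (tvu hK v1 (tvu hK u2 (tvu hK v2 (e 4))))))
      rw [hgi (by decide), b2, map_smul (tvu hK v1), map_smul (tvu hK u1),
        c1 _ (hp0 (by decide)) (hp0 (by decide)), hout (by decide) (by decide)]
  · -- joining a fixed member to an outside one
    intro d hd hf
    obtain ⟨u, hu, hu0, hdu⟩ := Q.centre d hd
    have hmu := (hfix hu hd hdu).1 hf
    obtain ⟨n', hn', hmn', hun⟩ : ∃ n, B n n = 1 ∧ B m n = 0 ∧ B u n ≠ 0 := by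
      by_contra hcon
      push Not at hcon
      obtain ⟨n0, hn0, hmn0⟩ := exists_unit_orth hK hS hND h5 (k := 1) (by omega) (orth_single hK hS hND h5 hm)
      obtain ⟨e, he, he0, -⟩ := exists_orth hK hS hND h5 hm hn0 (by simpa using hmn0 0)
      have h0 : B u = 0 := orth_ext hK hS hND h5 he fun i => by
        rcases eq_or_ne i 0 with rfl | hi
        · rw [he0, hS.isRefl _ _ hmu]; rfl
        · rw [hcon (e i) (by rw [he i i, if_pos rfl]) (by rw [← he0, he 0 i, if_neg hi.symm])]; rfl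
      exact hu0 (hND.1 u fun v => by rw [h0]; rfl)
    obtain ⟨hx, hx0, -, -, -⟩ := swap hK hS hm hn' hmn' (l := 1) (by rw [map_one, one_mul])
    obtain ⟨a, ha, hax⟩ := Q.every _ hx hx0
    refine ⟨a, ha, fun h => ?_, fun h => ?_⟩
    · have := (hfix hx ha hax).1 h
      simp [hm, hmn'] at this
    · have hu' : B (tvu hK hx u) (tvu hK hx u) = 0 := by rw [tvu_mem hK hS hx, hu]
      have h2 := (hfix hu' (cj_mem hD ha hd) (by
        rw [cj_conj hD ha, map_mul, map_mul, map_inv, hax, hdu, tvu_conj hK (tvu_mem hK hS hx)])).1 h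
      rw [tvu_apply, map_add, map_smul, hmu, zero_add] at h2
      simp only [map_add, one_smul, hm, hmn', LinearMap.add_apply, hmu, smul_eq_mul, add_zero, zero_add,
        mul_one] at h2
      exact hun (hS.isRefl _ _ h2)
  · -- two steps
    intro d hd b hb hfd hfb
    obtain ⟨n, hn, hmn, hx, hdx⟩ := hscale hd hfd
    obtain ⟨n', hn', hmn', hy, hby⟩ := hscale hb hfb
    obtain ⟨k, hk, hmk, hnk, hn'k⟩ : ∃ k, B k k = 1 ∧ B m k = 0 ∧ B n k = 0 ∧ B n' k = 0 := by
      obtain ⟨e, he, he0, he1⟩ := exists_orth hK hS hND h5 hm hn hmn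
      by_cases h : B n n' = 0
      · have h2 : Orth B (Fin.snoc ![m] n : Fin 2 → V) :=
          orth_snoc hK hS hND h5 (orth_single hK hS hND h5 hm) hn fun i => by fin_cases i; simpa using hmn
        have h3 := orth_snoc hK hS hND h5 h2 hn' fun i => by
          fin_cases i
          · simpa [Fin.snoc] using hmn'
          · simpa [Fin.snoc] using h
        obtain ⟨k, hk, hpk⟩ := exists_unit_orth hK hS hND h5 (by omega) h3
        exact ⟨k, hk, hpk 0, hpk 1, hpk 2⟩
      · have key : ∀ i : Fin 5, i ≠ 0 → i ≠ 1 → B (e i) n' = 0 →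
            ∃ k, B k k = 1 ∧ B m k = 0 ∧ B n k = 0 ∧ B n' k = 0 := fun i h0 h1 hc =>
          ⟨e i, by rw [he i i, if_pos rfl], by rw [← he0, he 0 i, if_neg h0.symm],
            by rw [← he1, he 1 i, if_neg h1.symm], hS.isRefl _ _ hc⟩
        by_contra hcon
        have hr := congrArg (fun v => B n' v) (orth_repr hK hS hND h5 he n')
        simp only [Fin.sum_univ_five, map_add, map_smul, smul_eq_mul, he0, he1, hmn', zero_mul, zero_add,
          hn'] at hr
        rw [← hS.eq n n', ← hS.eq (e 2) n', ← hS.eq (e 3) n', ← hS.eq (e 4) n'] at hr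
        have hN : ∀ {c : F}, c ≠ 0 → c * σ c = 1 := fun {c} hc => by
          rw [hK.sq, ← mul_assoc]; exact hK.cube c hc
        rw [hN h, hN fun hc => hcon (key 2 (by decide) (by decide) hc),
          hN fun hc => hcon (key 3 (by decide) (by decide) hc),
          hN fun hc => hcon (key 4 (by decide) (by decide) hc)] at hr
        exact one_ne_zero (α := F) (by linear_combination -hr + 2 * hK.two)
    obtain ⟨hw2, hw20, s1, -, -⟩ := swap hK hS hn hk hnk (l := 1) (by rw [map_one, one_mul])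
    obtain ⟨hw1, hw10, t1, -, t3⟩ := swap hK hS hk hn' (hS.isRefl _ _ hn'k) (l := 1) (by rw [map_one, one_mul])
    obtain ⟨a1, ha1, e1⟩ := Q.every _ hw1 hw10
    obtain ⟨a2, ha2, e2⟩ := Q.every _ hw2 hw20
    refine ⟨a1, ha1, a2, ha2, (hfix hw1 ha1 e1).2 (by simp [hmk, hmn']),
      (hfix hw2 ha2 e2).2 (by simp [hmn, hmk]), fun hc => ?_, ?_⟩
    · have := (Q.comm a2 d _ _ hw2 hx ha2 hd e2 hdx).1 hc
      simp [hS.isRefl _ _ hmn, hn, hS.isRefl _ _ hmk, hS.isRefl _ _ hnk] at this
    · rw [Q.red_iff, cj_conj hD ha1, cj_conj hD ha2, hby]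
      simp only [map_mul, map_inv, e1, e2, hdx, tvu_conj hK (tvu_mem hK hS hw2)]
      rw [tvu_conj hK (tvu_mem hK hS hw1)]
      refine tvu_congr hK _ _ ?_
      have f2 : tvu hK hw2 m = m := by
        rw [tvu_apply]; simp [hS.isRefl _ _ hmn, hS.isRefl _ _ hmk]
      rw [map_add, f2, s1, map_add, map_smul, t3 m (hS.isRefl _ _ hmk) (hS.isRefl _ _ hmn'), t1]
      simp

end Cfsg.Lib.Fischer.RadicalAbelian
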