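import Cfsg.Agent.S1631

/-!
# Transvections of the unitary groups over the field with four elements

Two facts about the transvections whose centre is perpendicular to an isotropic `x`: their group is
transitive on the isotropic `y` with `B x y = 1` and contains the special isometries fixing `x`.
Also, an involution moving more than a line has a conjugate with product of order four.
-/

set_option autoImplicit false
set_option linter.unusedSectionVars false

namespace Cfsg.Lib.Fischer.RadicalAbelian.Unitary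

open Module Cfsg.Lib.Linear.Herm Cfsg.Agent.S1631

variable {F V : Type*} [Field F] [Fintype F] [AddCommGroup V] [Module F V] [FiniteDimensional F V]
  {σ : F →+* F} {B : V →ₛₗ[σ] V →ₗ[F] F}

/-- The group of the transvections with centre perpendicular to `x`. -/
def side (hK : FourField F σ) (B : V →ₛₗ[σ] V →ₗ[F] F) (x : V) : Subgroup (V ≃ₗ[F] V) :=
  Subgroup.closure {g | ∃ (u : V) (hu : B u u = 0), u ≠ 0 ∧ B x u = 0 ∧ g = tvu hK hu}

variable (hK : FourField F σ) (hS : B.IsSymm) (hB : B.Nondegenerate)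
include hK hS hB

theorem side_iso {x : V} {g : V ≃ₗ[F] V} (hg : g ∈ side hK B x) : g ∈ iso B := by
  induction hg using Subgroup.closure_induction with
  | mem t ht => obtain ⟨u, hu, -, -, rfl⟩ := ht; exact tvu_mem hK hS hu
  | one => exact one_mem _
  | mul a b _ _ ha hb => exact mul_mem ha hb
  | inv a _ ha => exact inv_mem ha

theorem side_fix {x : V} {g : V ≃ₗ[F] V} (hg : g ∈ side hK B x) : g x = x := by
  induction hg using Subgroup.closure_induction with
  | mem t ht =>
    obtain ⟨u, hu, -, hxu, rfl⟩ := ht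
    have : B u x = 0 := hS.isRefl _ _ hxu
    rw [tvu_apply, this, zero_smul, add_zero]
  | one => rfl
  | mul a b _ _ ha hb => rw [LinearEquiv.mul_apply, hb, ha]
  | inv a _ ha =>
    conv_lhs => rw [← ha]
    rw [← LinearEquiv.mul_apply, inv_mul_cancel]; rfl

theorem side_det {x : V} {g : V ≃ₗ[F] V} (hg : g ∈ side hK B x) : LinearEquiv.det g = 1 := by
  induction hg using Subgroup.closure_induction with
  | mem t ht =>
    obtain ⟨u, hu, -, -, rfl⟩ := ht
    exact Units.ext (by rw [tvu, det_qrefl, hu, mul_zero, add_zero]; rfl)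
  | one => exact map_one _
  | mul a b _ _ ha hb => rw [map_mul, ha, hb, mul_one]
  | inv a _ ha => rw [map_inv, ha, inv_one]

omit hB in
theorem neg_smul_one (v : V) : -v = v := by
  have := congrArg (fun c : F => c • v) (neg_eq' hK (1 : F))
  simpa using this

/-- One transvection joins two of the vectors paired to one. -/
theorem step {x y z : V} (hy : B y y = 0) (hxy : B x y = 1) (hz : B z z = 0) (hxz : B x z = 1)
    (hyz : B y z = 1) : ∃ t ∈ side hK B x, t y = z := by
  have hzy : B z y = 1 := by rw [← hS.eq y z, hyz, map_one]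
  have hw : B (y + z) (y + z) = 0 := by
    simp only [map_add, LinearMap.add_apply, hy, hz, hyz, hzy]
    linear_combination hK.two
  have h0 : y + z ≠ 0 := by
    intro h
    have h' : B (y + z) y = 0 := by rw [h]; simp
    rw [map_add, LinearMap.add_apply, hy, hzy, zero_add] at h'
    exact one_ne_zero h'
  have hxw : B x (y + z) = 0 := by rw [map_add, hxy, hxz]; linear_combination hK.two
  refine ⟨tvu hK hw, Subgroup.subset_closure ⟨_, hw, h0, hxw, rfl⟩, ?_⟩
  rw [tvu_apply, map_add, LinearMap.add_apply, hy, hzy, zero_add, one_smul]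
  calc y + (y + z) = (y + y) + z := by abel
    _ = z := by
      nth_rw 1 [← neg_smul_one hK hS y]
      rw [neg_add_cancel, zero_add]

/-- The side group is transitive on the vectors paired to one with `x`. -/
theorem transitive (h5 : 5 ≤ finrank F V) {x y y' : V} (hx : B x x = 0) (hy : B y y = 0)
    (hxy : B x y = 1) (hy' : B y' y' = 0) (hxy' : B x y' = 1) : ∃ t ∈ side hK B x, t y = y' := by
  suffices h : y' = y ∨ B y y' = 1 ∨ ∃ z, B z z = 0 ∧ B x z = 1 ∧ B y z = 1 ∧ B y' z = 1 by
    rcases h with h | h | ⟨z, hz, hxz, hyz, hy'z⟩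
    · exact ⟨1, one_mem _, h.symm⟩
    · exact step hK hS hB hy hxy hy' hxy' h
    · obtain ⟨t, ht, e⟩ := step hK hS hB hy hxy hz hxz hyz
      obtain ⟨t', ht', e'⟩ := step hK hS hB hy' hxy' hz hxz hy'z
      refine ⟨t'⁻¹ * t, mul_mem (inv_mem ht') ht, ?_⟩
      rw [LinearEquiv.mul_apply, e, ← e', ← LinearEquiv.mul_apply, inv_mul_cancel]; rfl
  have hyx : B y x = 1 := by rw [← hS.eq x y, hxy, map_one]
  by_cases hdep : y' ∈ Submodule.span F {x, y}
  · obtain ⟨α, β, hαβ⟩ := Submodule.mem_span_pair.1 hdep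
    have hβ : β = 1 := by
      rw [← hαβ, map_add, map_smul, map_smul, hx, hxy, smul_zero, zero_add, smul_eq_mul, mul_one] at hxy'
      exact hxy'
    subst hβ
    rw [one_smul] at hαβ
    have hα : σ α + α = 0 := by
      rw [← hαβ] at hy'
      simp only [map_add, LinearMap.add_apply, LinearMap.map_smulₛₗ, LinearMap.smul_apply, map_smul,
        smul_eq_mul, RingHom.id_apply, hx, hy, hxy, hyx, mul_zero, mul_one, add_zero, zero_add] at hy'
      linear_combination hy'
    rcases fixed_cases hK (show σ α = α by linear_combination hα - α * hK.two) with h | h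
    · exact Or.inl (by rw [← hαβ, h, zero_smul, zero_add])
    · refine Or.inr (Or.inl ?_)
      rw [← hαβ, h, one_smul, map_add, hyx, hy, add_zero]
  refine Or.inr (Or.inr ?_)
  let f : V →ₗ[F] F × F × F := (B x).prod ((B y).prod (B y'))
  obtain ⟨p, hp⟩ : ∃ p, B x p = 1 ∧ B y p = 0 ∧ B y' p = 0 := by
    obtain ⟨u, hu, hne⟩ := exists_perp_ne_zero hK.invol hS hB (Submodule.span F {y, y'}) (a := x)
      (fun h => by
        obtain ⟨α, β, hαβ⟩ := Submodule.mem_span_pair.1 h
        rcases eq_or_ne β 0 with hβ | hβ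
        · rw [hβ, zero_smul, add_zero] at hαβ
          have := hxy
          rw [← hαβ, LinearMap.map_smulₛₗ, LinearMap.smul_apply, hy, smul_zero] at this
          exact zero_ne_one this
        · refine hdep (Submodule.mem_span_pair.2 ⟨β⁻¹, -(β⁻¹ * α), ?_⟩)
          rw [← hαβ, smul_add, smul_smul, smul_smul, inv_mul_cancel₀ hβ, one_smul, neg_smul]
          abel)
    exact ⟨(B x u)⁻¹ • u, by rw [map_smul, smul_eq_mul, inv_mul_cancel₀ hne],
      by rw [map_smul, hu y (Submodule.subset_span (by simp)), smul_zero],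
      by rw [map_smul, hu y' (Submodule.subset_span (by simp)), smul_zero]⟩
  obtain ⟨r, hr⟩ : ∃ r, B x r = 0 ∧ B y r = 1 ∧ B y' r = 0 := by
    obtain ⟨u, hu, hne⟩ := exists_perp_ne_zero hK.invol hS hB (Submodule.span F {x, y'}) (a := y)
      (fun h => by
        obtain ⟨α, β, hαβ⟩ := Submodule.mem_span_pair.1 h
        rcases eq_or_ne β 0 with hβ | hβ
        · rw [hβ, zero_smul, add_zero] at hαβ
          have := hxy
          rw [← hαβ, map_smul, hx, smul_zero] at this
          exact zero_ne_one this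
        · refine hdep (Submodule.mem_span_pair.2 ⟨-(β⁻¹ * α), β⁻¹, ?_⟩)
          rw [← hαβ, smul_add, smul_smul, smul_smul, inv_mul_cancel₀ hβ, one_smul, neg_smul]
          abel)
    exact ⟨(B y u)⁻¹ • u, by rw [map_smul, hu x (Submodule.subset_span (by simp)), smul_zero],
      by rw [map_smul, smul_eq_mul, inv_mul_cancel₀ hne],
      by rw [map_smul, hu y' (Submodule.subset_span (by simp)), smul_zero]⟩
  obtain ⟨s, hs⟩ : ∃ s, B x s = 0 ∧ B y s = 0 ∧ B y' s = 1 := by
    obtain ⟨u, hu, hne⟩ := exists_perp_ne_zero hK.invol hS hB (Submodule.span F {x, y}) hdep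
    exact ⟨(B y' u)⁻¹ • u, by rw [map_smul, hu x (Submodule.subset_span (by simp)), smul_zero],
      by rw [map_smul, hu y (Submodule.subset_span (by simp)), smul_zero],
      by rw [map_smul, smul_eq_mul, inv_mul_cancel₀ hne]⟩
  let z0 := p + r + s
  have hz0 : B x z0 = 1 ∧ B y z0 = 1 ∧ B y' z0 = 1 := by
    simp only [z0, map_add, hp.1, hp.2.1, hp.2.2, hr.1, hr.2.1, hr.2.2, hs.1, hs.2.1, hs.2.2,
      add_zero, zero_add, and_self]
  obtain ⟨w, hw, hww⟩ : ∃ w, (B x w = 0 ∧ B y w = 0 ∧ B y' w = 0) ∧ B w w ≠ 0 := by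
    by_contra h
    push Not at h
    have hzero : ∀ a b, (B x a = 0 ∧ B y a = 0 ∧ B y' a = 0) → (B x b = 0 ∧ B y b = 0 ∧ B y' b = 0) →
        B a b = 0 := by
      intro a b ha hb
      obtain ⟨ω, hω⟩ : ∃ ω : F, σ ω ≠ ω := by
        by_contra h'
        push Not at h'
        exact hK.ne_id (RingHom.ext h')
      have key : ∀ c : F, σ c * B b a + c * B a b = 0 := fun c => by
        have h' := h (a + c • b) ⟨by simp [ha.1, hb.1], by simp [ha.2.1, hb.2.1], by simp [ha.2.2, hb.2.2]⟩
        simp only [map_add, LinearMap.add_apply, LinearMap.map_smulₛₗ, LinearMap.smul_apply, map_smul,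
          smul_eq_mul, RingHom.id_apply, h a ha, h b hb, mul_zero, add_zero, zero_add] at h'
        linear_combination h'
      have h1 := key 1
      rw [map_one, one_mul, one_mul] at h1
      have h3 : (σ ω - ω) * B a b = 0 := by linear_combination (σ ω) * h1 - key ω
      exact (mul_eq_zero.mp h3).resolve_left (sub_ne_zero.mpr hω)
    have hle : LinearMap.ker f ≤ Submodule.span F {x, y, y'} := by
      intro a ha
      by_contra hna
      obtain ⟨u, hu, hau⟩ := exists_perp_ne_zero hK.invol hS hB _ hna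
      simp only [f, LinearMap.ker_prod, Submodule.mem_inf, LinearMap.mem_ker] at ha
      exact hau (hzero a u ha ⟨hu x (Submodule.subset_span (by simp)),
        hu y (Submodule.subset_span (by simp)), hu y' (Submodule.subset_span (by simp))⟩)
    have h1 := LinearMap.finrank_range_add_finrank_ker f
    have h2 := Submodule.finrank_le (LinearMap.range f)
    rw [Module.finrank_prod, Module.finrank_prod, Module.finrank_self] at h2
    have hone : LinearMap.ker f ≤ Submodule.span F {-(B y y') • x - y + y'} := by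
      intro a ha
      obtain ⟨α, β, γ, rfl⟩ : ∃ α β γ : F, a = α • x + β • y + γ • y' := by
        have h' := hle ha
        rw [Submodule.mem_span_insert] at h'
        obtain ⟨α, z, hz, rfl⟩ := h'
        obtain ⟨β, γ, rfl⟩ := Submodule.mem_span_pair.1 hz
        exact ⟨α, β, γ, (add_assoc _ _ _).symm⟩
      simp only [f, LinearMap.ker_prod, Submodule.mem_inf, LinearMap.mem_ker, map_add, map_smul, smul_eq_mul,
        hx, hxy, hxy', hyx, hy, mul_zero, mul_one, add_zero, zero_add] at ha
      refine Submodule.mem_span_singleton.2 ⟨γ, ?_⟩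
      have hb : β = -γ := eq_neg_of_add_eq_zero_left ha.1
      have hα : α = -(γ * B y y') := eq_neg_of_add_eq_zero_left ha.2.1
      rw [hb, hα]
      module
    have h3 := Submodule.finrank_mono hone
    have h4 : finrank F ↥(Submodule.span F {-(B y y') • x - y + y'}) ≤ 1 := by
      by_cases h0 : -(B y y') • x - y + y' = 0
      · rw [h0, Submodule.span_zero_singleton, finrank_bot]; omega
      · rw [finrank_span_singleton h0]
    omega
  have hww1 : B w w = 1 := (fixed_cases hK (hS.eq w w)).resolve_left hww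
  have hall : ∀ l : F, B x (z0 + l • w) = 1 ∧ B y (z0 + l • w) = 1 ∧ B y' (z0 + l • w) = 1 := fun l => by
    simp [hz0, hw.1, hw.2.1, hw.2.2]
  have hQ : ∀ l : F, B (z0 + l • w) (z0 + l • w) = B z0 z0 + l * σ (B w z0) + σ l * B w z0 + σ l * l := by
    intro l
    simp only [map_add, LinearMap.add_apply, LinearMap.map_smulₛₗ, LinearMap.smul_apply, map_smul,
      smul_eq_mul, RingHom.id_apply, hww1, hS.eq w z0]
    ring
  rcases fixed_cases hK (hS.eq z0 z0) with h | h
  · exact ⟨z0, h, hz0⟩
  by_cases ha : B w z0 = 0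
  · refine ⟨z0 + (1 : F) • w, ?_, hall 1⟩
    rw [hQ, h, ha, map_zero, map_one]
    linear_combination hK.two
  · refine ⟨z0 + B w z0 • w, ?_, hall _⟩
    have hn : σ (B w z0) * B w z0 = 1 := by
      rw [hK.sq]; exact hK.cube _ ha
    rw [hQ, h, mul_comm (B w z0), hn]
    linear_combination (2 : F) * hK.two

/-- The side group contains the special isometries fixing `x`. -/
theorem stabilizer_le (h6 : 6 ≤ finrank F V) {x : V} (hx : B x x = 0) (hx0 : x ≠ 0)
    {g : V ≃ₗ[F] V} (hg : g ∈ iso B) (hd : LinearEquiv.det g = 1) (hgx : g x = x) : g ∈ side hK B x := by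
  obtain ⟨y, hxy, hy⟩ : ∃ y, B x y = 1 ∧ B y y = 0 := by
    obtain ⟨u, hu⟩ : ∃ u, B x u ≠ 0 := by
      by_contra h
      push Not at h
      exact hx0 (hB.1 x h)
    obtain ⟨v, hv⟩ : ∃ v, B x v = 1 :=
      ⟨(B x u)⁻¹ • u, by rw [map_smul, smul_eq_mul, inv_mul_cancel₀ hu]⟩
    obtain ⟨l, hl⟩ := exists_trace_eq hK.ne_id hK.invol (a := B v v) (hS.eq v v)
    refine ⟨v + l • x, by rw [map_add, map_smul, hv, hx, smul_zero, add_zero], ?_⟩
    simp only [map_add, LinearMap.add_apply, LinearMap.map_smulₛₗ, LinearMap.smul_apply, map_smul,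
      smul_eq_mul, RingHom.id_apply, hx, hv, ← hS.eq x v, map_one, mul_one, mul_zero, add_zero]
    linear_combination hl + B v v * hK.two
  obtain ⟨t, ht, hty⟩ := transitive hK hS hB (by omega) hx (show B (g y) (g y) = 0 by rw [hg, hy])
    (show B x (g y) = 1 by rw [← hgx, hg, hxy]) hy hxy
  set h := t * g
  have hh : h ∈ iso B := mul_mem (side_iso hK hS hB ht) hg
  have hhx : h x = x := by rw [LinearEquiv.mul_apply, hgx, side_fix hK hS hB ht]
  have hhy : h y = y := by rw [LinearEquiv.mul_apply, hty]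
  have hyx : B y x = 1 := by rw [← hS.eq x y, hxy, map_one]
  let W : Submodule F V := LinearMap.ker (B x) ⊓ LinearMap.ker (B y)
  have hW : ∀ a, a ∈ W ↔ B x a = 0 ∧ B y a = 0 := fun a => by simp [W]
  have hdec : ∀ a : V, a - (B y a • x + B x a • y) ∈ W := fun a => by
    rw [hW]
    simp [map_sub, map_add, map_smul, hx, hy, hxy, hyx]
  have hhW : ∀ a ∈ W, h a ∈ W := fun a ha => by
    rw [hW] at ha ⊢
    exact ⟨by rw [← hhx, hh, ha.1], by rw [← hhy, hh, ha.2]⟩
  let hl : ↥W →ₗ[F] ↥W := (h : V →ₗ[F] V).restrict (p := W) (q := W) hhW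
  have hinj : Function.Injective hl := fun a b hab => Subtype.ext (h.injective (congrArg Subtype.val hab))
  let hWe : ↥W ≃ₗ[F] ↥W := LinearEquiv.ofBijective hl ⟨hinj, LinearMap.surjective_of_injective hinj⟩
  let BW : ↥W →ₛₗ[σ] ↥W →ₗ[F] F := LinearMap.mk₂'ₛₗ σ (RingHom.id F) (fun a b => B (a : V) (b : V))
    (fun a a' b => by simp) (fun c a b => by simp) (fun a b b' => by simp) (fun c a b => by simp)
  have hSW : BW.IsSymm := ⟨fun a b => hS.eq (a : V) b⟩
  have hBW : BW.Nondegenerate := by
    have hleft : ∀ a : ↥W, (∀ b : ↥W, B (a : V) b = 0) → a = 0 := fun a ha => by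
      refine Subtype.ext (hB.1 _ fun v => ?_)
      have h1 := ha ⟨_, hdec v⟩
      obtain ⟨a1, a2⟩ := (hW _).1 a.2
      simp only [map_sub, map_add, map_smul, hS.isRefl _ _ a1, hS.isRefl _ _ a2, smul_zero, add_zero,
        sub_zero] at h1
      exact h1
    exact ⟨hleft, fun b hb => hleft b fun a => hS.isRefl _ _ (hb a)⟩
  have h5 : 4 ≤ finrank F ↥W := by
    have h1 := LinearMap.finrank_range_add_finrank_ker ((B x).prod (B y))
    have h2 := Submodule.finrank_le (LinearMap.range ((B x).prod (B y)))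
    rw [LinearMap.ker_prod] at h1
    rw [Module.finrank_prod, Module.finrank_self] at h2
    show 4 ≤ finrank F ↥(LinearMap.ker (B x) ⊓ LinearMap.ker (B y))
    omega
  have hdh : LinearEquiv.det h = 1 := by rw [map_mul, side_det hK hS hB ht, hd, mul_one]
  have hdet : LinearEquiv.det hWe = 1 := by
    apply Units.ext
    rw [LinearEquiv.coe_det, Units.val_one]
    have hc : W ≤ W.comap (h : V →ₗ[F] V) := fun a ha => hhW a ha
    have e := LinearMap.det_eq_det_mul_det W (h : V →ₗ[F] V) hc
    rw [← LinearEquiv.coe_det, hdh, Units.val_one] at e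
    have hq : W.mapQ W (h : V →ₗ[F] V) hc = LinearMap.id := by
      refine LinearMap.ext fun q => ?_
      induction q using Submodule.Quotient.induction_on with | _ a => ?_
      rw [Submodule.mapQ_apply, LinearMap.id_apply, Submodule.Quotient.eq]
      have h2 := W.sub_mem (hhW _ (hdec a)) (hdec a)
      rw [map_sub, map_add, map_smul, map_smul, hhx, hhy, sub_sub_sub_cancel_right] at h2
      exact h2
    rw [hq, LinearMap.det_id, mul_one] at e
    exact e.symm
  have hmem : hWe ∈ tvGroup BW :=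
    (mem_tvGroup_iff hK.ne_id hK.invol hSW hBW (Or.inl h5) hWe).2 ⟨fun a b => hh (a : V) b, hdet⟩
  have lift : ∀ s ∈ tvGroup BW, ∃ T ∈ side hK B x, T x = x ∧ T y = y ∧ ∀ a : ↥W, T (a : V) = (s a : V) := by
    intro s hs
    induction hs using Subgroup.closure_induction with
    | mem s hs =>
      obtain ⟨w, l, hlw, hw, rfl⟩ := hs
      have hw' : B (w : V) w = 0 := hw
      obtain ⟨w1, w2⟩ := (hW _).1 w.2
      have hl : l = 0 ∨ l = 1 := fixed_cases hK (by
        rw [hw, mul_zero, add_zero] at hlw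
        linear_combination hlw - l * hK.two)
      by_cases hw0 : l = 0 ∨ (w : V) = 0
      · refine ⟨1, one_mem _, rfl, rfl, fun a => ?_⟩
        rcases hw0 with e | e
        · simp [qrefl_apply, e]
        · simp [qrefl_apply, e]
      · push Not at hw0
        refine ⟨tvu hK hw', Subgroup.subset_closure ⟨_, hw', hw0.2, w1, rfl⟩, ?_, ?_, fun a => ?_⟩
        · rw [tvu_apply, hS.isRefl _ _ w1, zero_smul, add_zero]
        · rw [tvu_apply, hS.isRefl _ _ w2, zero_smul, add_zero]
        · rw [tvu_apply, qrefl_apply, hl.resolve_left hw0.1, one_mul]; rfl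
    | one => exact ⟨1, one_mem _, rfl, rfl, fun a => rfl⟩
    | mul s s' _ _ ih ih' =>
      obtain ⟨T, hT, Tx, Ty, TW⟩ := ih
      obtain ⟨T', hT', Tx', Ty', TW'⟩ := ih'
      exact ⟨T * T', mul_mem hT hT', by rw [LinearEquiv.mul_apply, Tx', Tx],
        by rw [LinearEquiv.mul_apply, Ty', Ty],
        fun a => by rw [LinearEquiv.mul_apply, TW', TW, LinearEquiv.mul_apply]⟩
    | inv s _ ih =>
      obtain ⟨T, hT, Tx, Ty, TW⟩ := ih
      refine ⟨T⁻¹, inv_mem hT, ?_, ?_, fun a => ?_⟩
      · apply T.injective; rw [← LinearEquiv.mul_apply, mul_inv_cancel, Tx]; rfl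
      · apply T.injective; rw [← LinearEquiv.mul_apply, mul_inv_cancel, Ty]; rfl
      · apply T.injective
        rw [← LinearEquiv.mul_apply, mul_inv_cancel, TW, ← LinearEquiv.mul_apply, mul_inv_cancel]
        rfl
  obtain ⟨T, hT, Tx, Ty, TW⟩ := lift _ hmem
  have hTh : T = h := LinearEquiv.ext fun a => by
    have e : a = (a - (B y a • x + B x a • y)) + (B y a • x + B x a • y) := by abel
    rw [e, map_add, map_add, map_add, map_add, map_smul, map_smul, map_smul, map_smul, Tx, Ty, hhx, hhy,
      TW ⟨_, hdec a⟩]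
    rfl
  have := mul_mem (inv_mem ht) (hTh ▸ hT)
  rwa [inv_mul_cancel_left] at this

/-- An involution moving more than a line has a conjugate with product of order other than 1, 2, 3. -/
theorem rank_one_of_involution {e : V ≃ₗ[F] V} (he : e ∈ iso B) (he2 : e * e = 1)
    (hsq : ∀ g ∈ iso B, LinearEquiv.det g = 1 →
      (e * (g * e * g⁻¹)) ^ 2 = 1 ∨ (e * (g * e * g⁻¹)) ^ 3 = 1) :
    ∃ a : V, ∀ x, ∃ c : F, e x + x = c • a := by
  have hee : ∀ x, e (e x) = x := fun x => by rw [← LinearEquiv.mul_apply, he2]; rfl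
  have hvv : ∀ v : V, v + v = 0 := fun v => by
    nth_rw 1 [← neg_smul_one hK hS v]; rw [neg_add_cancel]
  have hself : ∀ x y, B (e x) y = B x (e y) := fun x y => by rw [← he x (e y), hee]
  have hN0 : ∀ x y, B (e x + x) (e y + y) = 0 := fun x y => by
    simp only [map_add, LinearMap.add_apply, he x y, hself]
    linear_combination (B x y + B x (e y)) * hK.two
  have hher : ∀ x y, σ (B x (e y + y)) = B y (e x + x) := fun x y => by
    rw [hS.eq x (e y + y)]
    simp only [map_add, LinearMap.add_apply, hself]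
  by_contra hcon
  push Not at hcon
  have hpol : ∀ (P : V → Prop), (∀ x y, P x → P y → ∀ c : F, P (x + c • y)) →
      (∀ x, P x → B x (e x + x) = 0) → ∀ x y, P x → P y → B x (e y + y) = 0 := by
    intro P hP h0 x y hx hy
    obtain ⟨ω, hω⟩ : ∃ ω : F, σ ω ≠ ω := by
      by_contra h
      push Not at h
      exact hK.ne_id (RingHom.ext h)
    have key : ∀ c : F, σ c * B y (e x + x) + c * B x (e y + y) = 0 := fun c => by
      have hx0 := h0 x hx
      have hy0 := h0 y hy
      have h := h0 _ (hP x y hx hy c)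
      simp only [map_add, LinearMap.add_apply, LinearMap.map_smulₛₗ, LinearMap.smul_apply, map_smul,
        smul_eq_mul, RingHom.id_apply] at h hx0 hy0 ⊢
      linear_combination h - hx0 - σ c * c * hy0
    have h1 := key 1
    rw [map_one, one_mul, one_mul] at h1
    have h3 : (σ ω - ω) * B x (e y + y) = 0 := by linear_combination (σ ω) * h1 - key ω
    exact (mul_eq_zero.mp h3).resolve_left (sub_ne_zero.mpr hω)
  have hNlin : ∀ (x y : V) (c : F), e (x + c • y) + (x + c • y) = (e x + x) + c • (e y + y) := fun x y c => by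
    rw [map_add, map_smul, smul_add]; abel
  have hNzero : ∀ x, (∀ y, B y (e x + x) = 0) → e x + x = 0 := fun x h =>
    hB.1 _ fun y => by rw [← hS.eq y, h, map_zero]
  obtain ⟨u0, hu0⟩ : ∃ u0, B u0 (e u0 + u0) ≠ 0 := by
    by_contra h
    push Not at h
    obtain ⟨x, hx⟩ := hcon 0
    exact hx 0 (by rw [hNzero x fun y => hpol (fun _ => True) (fun _ _ _ _ _ => trivial) (fun z _ => h z) y x
      trivial trivial, smul_zero])
  have hu1 : B u0 (e u0 + u0) = 1 := (fixed_cases hK (hher u0 u0)).resolve_left hu0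
  obtain ⟨x0, hx0⟩ := hcon (e u0 + u0)
  set x1 := x0 + B u0 (e x0 + x0) • u0
  have hux1 : B u0 (e x1 + x1) = 0 := by
    rw [hNlin, map_add, map_smul, hu1, smul_eq_mul, mul_one]
    linear_combination B u0 (e x0 + x0) * hK.two
  have hN1 : e x1 + x1 ≠ 0 := by
    intro h
    rw [hNlin] at h
    refine hx0 (B u0 (e x0 + x0)) ?_
    exact (eq_neg_of_add_eq_zero_left h).trans (neg_smul_one hK hS _)
  obtain ⟨v0, huv0, hv0⟩ : ∃ v0, B u0 (e v0 + v0) = 0 ∧ B v0 (e v0 + v0) ≠ 0 := by
    by_contra h
    push Not at h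
    apply hN1
    refine hNzero x1 fun y => ?_
    set y1 := y + B u0 (e y + y) • u0
    have hy1 : B u0 (e y1 + y1) = 0 := by
      rw [hNlin, map_add, map_smul, hu1, smul_eq_mul, mul_one]
      linear_combination B u0 (e y + y) * hK.two
    have h1 := hpol (fun z => B u0 (e z + z) = 0)
      (fun p r hp hr c => by show B u0 (e (p + c • r) + (p + c • r)) = 0; rw [hNlin, map_add, map_smul, hp, hr,
        smul_zero, add_zero])
      (fun z hz => h z hz) y1 x1 hy1 hux1
    rwa [show B y1 (e x1 + x1) = B y (e x1 + x1) by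
      rw [map_add B, LinearMap.add_apply, LinearMap.map_smulₛₗ, LinearMap.smul_apply, hux1, smul_zero,
        add_zero]] at h1
  have hv1 : B v0 (e v0 + v0) = 1 := (fixed_cases hK (hher v0 v0)).resolve_left hv0
  have hvu0 : B v0 (e u0 + u0) = 0 := by rw [← hher u0 v0, huv0, map_zero]
  obtain ⟨a, ha⟩ : ∃ a, a = e u0 + u0 := ⟨_, rfl⟩
  obtain ⟨b, hb⟩ : ∃ b, b = e v0 + v0 := ⟨_, rfl⟩
  rw [← ha] at hu1 hvu0
  rw [← hb] at hv1 huv0
  have haa : B a a = 0 := ha ▸ hN0 u0 u0
  have hbb : B b b = 0 := hb ▸ hN0 v0 v0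
  have hab : B a b = 0 := by rw [ha, hb]; exact hN0 u0 v0
  have hba : B b a = 0 := hS.isRefl _ _ hab
  have hea : e a = a := by rw [ha, map_add, hee, add_comm]
  have heb : e b = b := by rw [hb, map_add, hee, add_comm]
  obtain ⟨l, hl⟩ := exists_trace_eq hK.ne_id hK.invol (a := B u0 u0) (hS.eq u0 u0)
  obtain ⟨u, hu⟩ : ∃ u, u = u0 + l • a := ⟨_, rfl⟩
  have hau0 : B a u0 = 1 := by rw [← hS.eq u0 a, hu1, map_one]
  have hua : B u a = 1 := by simp [hu, haa, hu1]
  have hub : B u b = 0 := by simp [hu, hab, huv0]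
  have huu : B u u = 0 := by
    rw [hu]
    simp only [map_add, LinearMap.add_apply, LinearMap.map_smulₛₗ, LinearMap.smul_apply, map_smul,
      smul_eq_mul, RingHom.id_apply, haa, hu1, hau0, mul_zero, mul_one, add_zero]
    linear_combination hl + B u0 u0 * hK.two
  have hNu : e u + u = a := by rw [hu, hNlin, ← ha, hea, hvv, smul_zero, add_zero]
  obtain ⟨l', hl'⟩ := exists_trace_eq hK.ne_id hK.invol (a := B v0 v0) (hS.eq v0 v0)
  obtain ⟨v, hv⟩ : ∃ v, v = v0 + B u v0 • a + l' • b := ⟨_, rfl⟩
  have hav0 : B a v0 = 0 := hS.isRefl _ _ hvu0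
  have hbv0 : B b v0 = 1 := by rw [← hS.eq v0 b, hv1, map_one]
  have huv : B u v = 0 := by
    simp only [hv, map_add, map_smul, hua, hub, smul_eq_mul, mul_one, mul_zero, add_zero]
    linear_combination B u v0 * hK.two
  have hva : B v a = 0 := by simp [hv, haa, hba, hvu0]
  have hvb : B v b = 1 := by simp [hv, hab, hbb, hv1]
  have hvv' : B v v = 0 := by
    rw [hv]
    simp only [map_add, LinearMap.add_apply, LinearMap.map_smulₛₗ, LinearMap.smul_apply, map_smul,
      smul_eq_mul, RingHom.id_apply, haa, hbb, hab, hba, hv1, hvu0, hav0, hbv0, mul_zero, mul_one, add_zero]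
    linear_combination hl' + B v0 v0 * hK.two
  have hNv : e v + v = b := by
    rw [hv, hNlin, hNlin, ← hb, hea, heb, hvv, hvv, smul_zero, smul_zero, add_zero, add_zero]
  have hau : B a u = 1 := by rw [← hS.eq u a, hua, map_one]
  have hbu : B b u = 0 := hS.isRefl _ _ hub
  have hav : B a v = 0 := hS.isRefl _ _ hva
  have hbv : B b v = 1 := by rw [← hS.eq v b, hvb, map_one]
  have hvu : B v u = 0 := hS.isRefl _ _ huv
  obtain ⟨C, hC⟩ : ∃ C : F → F → F → F → V, ∀ p q r s, C p q r s = p • a + q • b + r • u + s • v :=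
    ⟨_, fun _ _ _ _ => rfl⟩
  have hp : B (C 1 1 1 1) (C 1 1 1 1) = 0 := by
    simp only [hC, one_smul, map_add, LinearMap.add_apply, haa, hbb, hab, hba, hua, hub, huu, hau, hbu,
      hva, hvb, hvv', hav, hbv, huv, hvu]
    linear_combination (2 : F) * hK.two
  have hr : B (C 0 1 0 1) (C 0 1 0 1) = 0 := by
    simp only [hC, one_smul, zero_smul, zero_add, add_zero, map_add, LinearMap.add_apply, hbb, hvb, hvv', hbv]
    linear_combination hK.two
  have eP : ∀ p q r s, tvu hK hp (C p q r s) =
      C (p + (p + q + r + s)) (q + (p + q + r + s)) (r + (p + q + r + s)) (s + (p + q + r + s)) := by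
    intro p q r s
    rw [tvu_apply]
    simp only [hC, one_smul, map_add, map_smul, LinearMap.add_apply, haa, hbb, hab, hba, hua, hub, huu, hau,
      hbu, hva, hvb, hvv', hav, hbv, huv, hvu, smul_eq_mul, mul_zero, mul_one, add_zero, zero_add]
    module
  have eR : ∀ p q r s, tvu hK hr (C p q r s) = C p s r q := by
    intro p q r s
    rw [tvu_apply]
    have h1 : B (C 0 1 0 1) (C p q r s) = q + s := by
      simp only [hC, one_smul, zero_smul, zero_add, add_zero, map_add, map_smul, LinearMap.add_apply, hba,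
        hbb, hbu, hbv, hva, hvb, hvu, hvv', smul_eq_mul, mul_zero, mul_one]
    rw [h1]
    simp only [hC, one_smul, zero_smul, zero_add, add_zero]
    calc p • a + q • b + r • u + s • v + (q + s) • (b + v)
        = p • a + s • b + r • u + q • v + ((q • b + q • b) + (s • v + s • v)) := by module
      _ = _ := by rw [hvv, hvv, add_zero, add_zero]
  have eU : ∀ p q r s, tvu hK huu (C p q r s) = C p q (r + p) s := by
    intro p q r s
    rw [tvu_apply]
    simp only [hC, map_add, map_smul, hua, hub, huu, huv, smul_eq_mul, mul_zero, mul_one, add_zero]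
    module
  have eE : ∀ p q r s, e (C p q r s) = C (p + r) (q + s) r s := by
    intro p q r s
    have eu : e u = u + a := by rw [← hNu, add_comm (e u), ← add_assoc, hvv, zero_add]
    have ev : e v = v + b := by rw [← hNv, add_comm (e v), ← add_assoc, hvv, zero_add]
    simp only [hC, map_add, map_smul, hea, heb, eu, ev]
    module
  set g := tvu hK hp * tvu hK huu * tvu hK hr
  have hg : g ∈ iso B := mul_mem (mul_mem (tvu_mem hK hS hp) (tvu_mem hK hS huu)) (tvu_mem hK hS hr)
  have hgd : LinearEquiv.det g = 1 := by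
    have hdt : ∀ {w : V} (hw : B w w = 0), LinearEquiv.det (tvu hK hw) = 1 := fun {w} hw =>
      Units.ext (by rw [tvu, det_qrefl, hw, mul_zero, add_zero]; rfl)
    rw [map_mul, map_mul, hdt, hdt, hdt, mul_one, mul_one]
  have h2 : (1 : F) + 1 = 0 := by rw [one_add_one_eq_two, hK.two]
  have hm : ∀ p q r s, (e * (g * e * g⁻¹)) (C p q r s) =
      e (tvu hK hp (tvu hK huu (tvu hK hr (e (tvu hK hr (tvu hK huu (tvu hK hp (C p q r s)))))))) := by
    intro p q r s
    simp only [g, mul_inv_rev, tvu_inv, LinearEquiv.mul_apply]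
  have m1 : (e * (g * e * g⁻¹)) (C 0 0 1 0) = C 1 1 1 0 := by
    simp only [hm, eP, eR, eU, eE, h2, add_zero, zero_add]
  have m2 : (e * (g * e * g⁻¹)) (C 1 1 1 0) = C 0 1 1 0 := by
    simp only [hm, eP, eR, eU, eE, h2, add_zero, zero_add]
  have m3 : (e * (g * e * g⁻¹)) (C 0 1 1 0) = C 1 0 1 0 := by
    simp only [hm, eP, eR, eU, eE, h2, add_zero, zero_add]
  have hu0' : C 0 0 1 0 = u := by simp [hC]
  have hsq' := hsq g hg hgd
  generalize e * (g * e * g⁻¹) = m at m1 m2 m3 hsq'
  rcases hsq' with h | h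
  · have h' : (m ^ 2) (C 0 0 1 0) = C 0 0 1 0 := by rw [h]; rfl
    rw [pow_two, LinearEquiv.mul_apply, m1, m2] at h'
    have h'' := congrArg (B v) h'
    simp [hC, hva, hvb, hvu] at h''
  · have h' : (m ^ 3) (C 0 0 1 0) = C 0 0 1 0 := by rw [h]; rfl
    rw [pow_succ, pow_two, LinearEquiv.mul_apply, LinearEquiv.mul_apply, m1, m2, m3] at h'
    have h'' := congrArg (B u) h'
    simp [hC, hua, hub, huu] at h''

end Cfsg.Lib.Fischer.RadicalAbelian.Unitary
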