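import Cfsg.Agent.Lib.Fischer.RadicalAbelian.Basic
import Cfsg.Agent.Lib.Fischer.RadicalAbelian.Unitary
import Cfsg.Agent.Lib.Fischer.UniqueClass.Basic

/-!
# 3-transposition groups whose quotient by the 2-core is a unitary group over the field with four elements
-/

set_option autoImplicit false
set_option linter.style.haveILetI false
set_option linter.unusedSectionVars false

namespace Cfsg.Lib.Fischer.RadicalAbelian

open Module Cfsg Cfsg.Lib.Fischer Cfsg.Lib.Linear.Herm Cfsg.Agent.S1631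

section Model

variable {F : Type*} [Field F] [Fintype F]

theorem fourField (hF : Fintype.card F = 2 ^ 2) : FourField F (frob hF) := by
  have h2 : (2 : F) = 0 := by
    have h := FiniteField.cast_card_eq_zero F
    rw [hF, Nat.cast_pow] at h
    simpa using h
  refine ⟨fun x => by rw [frob_apply, sq], fun x hx => ?_, h2, frob_frob hF, frob_ne_id hF⟩
  have h := FiniteField.pow_card_sub_one_eq_one x hx
  rw [hF] at h
  linear_combination h

/-- The special unitary group as a group of linear maps. -/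
noncomputable def model (hF : Fintype.card F = 2 ^ 2) (n : ℕ) :
    ↥(Cfsg.SU n F 2) →* ((Fin n → F) ≃ₗ[F] (Fin n → F)) :=
  (iso (hB hF n)).subtype.comp ((guEquiv hF n).toMonoidHom.comp
    (((Matrix.SpecialLinearGroup.toGL).comp (Cfsg.SU n F 2).subtype).codRestrict (Cfsg.GU n F 2)
      fun A => A.2))

variable (hF : Fintype.card F = 2 ^ 2) (n : ℕ)

theorem model_apply (A : ↥(Cfsg.SU n F 2)) (x : Fin n → F) :
    model hF n A x = ((A : Matrix.SpecialLinearGroup (Fin n) F) : Matrix (Fin n) (Fin n) F).mulVec x := rfl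

theorem model_injective : Function.Injective (model hF n) := by
  intro A A' h
  refine Subtype.ext (Subtype.ext (Matrix.mulVec_injective (funext fun x => ?_)))
  rw [← model_apply hF n, ← model_apply hF n, h]

theorem model_mem (A : ↥(Cfsg.SU n F 2)) : model hF n A ∈ iso (hB hF n) := SetLike.coe_mem _

theorem model_det (A : ↥(Cfsg.SU n F 2)) : LinearEquiv.det (model hF n A) = 1 := by
  apply Units.ext
  rw [LinearEquiv.coe_det, Units.val_one]
  have : ((model hF n A : (Fin n → F) ≃ₗ[F] (Fin n → F)) : (Fin n → F) →ₗ[F] (Fin n → F)) =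
      Matrix.toLin' ((A : Matrix.SpecialLinearGroup (Fin n) F) : Matrix (Fin n) (Fin n) F) :=
    LinearMap.ext fun x => by rw [Matrix.toLin'_apply]; exact model_apply hF n A x
  rw [this, LinearMap.det_toLin']
  exact (A : Matrix.SpecialLinearGroup (Fin n) F).2

theorem model_surjective {g : (Fin n → F) ≃ₗ[F] (Fin n → F)} (hg : g ∈ iso (hB hF n))
    (hd : LinearEquiv.det g = 1) : ∃ A, model hF n A = g := by
  have hmv : ∀ x, (LinearMap.toMatrix' (g : (Fin n → F) →ₗ[F] (Fin n → F))).mulVec x = g x :=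
    fun x => LinearMap.toMatrix'_mulVec _ x
  have hdet : (LinearMap.toMatrix' (g : (Fin n → F) →ₗ[F] (Fin n → F))).det = 1 := by
    rw [LinearMap.det_toMatrix', ← LinearEquiv.coe_det, hd, Units.val_one]
  refine ⟨⟨⟨_, hdet⟩, fun u v => ?_⟩, LinearEquiv.ext fun x => (model_apply hF n _ x).trans (hmv x)⟩
  show Cfsg.hermForm n F 2 _ _ = _
  have := hg v u
  rw [hB_apply, hB_apply] at this
  convert this using 2 <;> exact hmv _

/-- There are an odd number of nonzero isotropic vectors. -/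
theorem odd_card_isotropic (hn : 2 ≤ n) :
    Odd (Nat.card {v : Fin n → F // v ≠ 0 ∧ hB hF n v v = 0}) := by
  classical
  have h := (N_formula hF n).1
  have he : Even (N F 2 n (0 : F)) := by
    obtain ⟨m, rfl⟩ : ∃ m, n = m + 2 := ⟨n - 2, by omega⟩
    have e : (N F 2 (m + 2) (0 : F) : ℤ) = 2 * (4 * 4 ^ m + (-1) ^ m * 2 ^ m) := by
      have : ((2 : ℕ) : ℤ) = 2 := rfl
      rw [this] at h
      have e4 : (4 : ℤ) ^ m = 2 ^ (2 * m) := by rw [pow_mul]; norm_num
      rw [e4]
      apply mul_left_cancel₀ (two_ne_zero : (2 : ℤ) ≠ 0)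
      linear_combination h
    have e' : Even (N F 2 (m + 2) (0 : F) : ℤ) := e ▸ even_two_mul _
    exact (Int.even_coe_nat _).1 e'
  have hzero : ∀ v : Fin n → F, hB hF n v v = 0 ↔ ∑ i, v i ^ (2 + 1) = 0 := fun v => by
    rw [hB_apply, hermForm_self]
  have hc : Nat.card {v : Fin n → F // v ≠ 0 ∧ hB hF n v v = 0} + 1 = N F 2 n (0 : F) := by
    simp only [N, Nat.card_eq_fintype_card, Fintype.card_subtype]
    have h0 : (0 : Fin n → F) ∈ Finset.univ.filter fun v : Fin n → F => ∑ i, v i ^ (2 + 1) = 0 := by simp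
    rw [← Finset.card_erase_add_one h0]
    congr 2
    ext v
    simp [hzero]
  rw [← hc] at he
  exact Nat.not_even_iff_odd.1 (Nat.even_add_one.1 he)

end Model

variable {G : Type*} [Group G] [Finite G] {D : Set G}

/-- A map onto the special isometries with kernel the 2-core that sends the members to the transvections. -/
structure Quot {F V : Type*} [Field F] [AddCommGroup V] [Module F V] {σ : F →+* F}
    (D : Set G) (hK : FourField F σ) (B : V →ₛₗ[σ] V →ₗ[F] F) where
  ψ : G →* (V ≃ₗ[F] V)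
  ker : ∀ g, ψ g = 1 ↔ g ∈ pCore 2 G
  mem : ∀ g, ψ g ∈ iso B
  det : ∀ g, LinearEquiv.det (ψ g) = 1
  surj : ∀ g ∈ iso B, LinearEquiv.det g = 1 → ∃ x, ψ x = g
  centre : ∀ d ∈ D, ∃ (w : V) (hw : B w w = 0), w ≠ 0 ∧ ψ d = tvu hK hw
  every : ∀ (w : V) (hw : B w w = 0), w ≠ 0 → ∃ d ∈ D, ψ d = tvu hK hw
  comm : ∀ (d a : G) (w z : V) (hw : B w w = 0) (hz : B z z = 0), d ∈ D → a ∈ D →
    ψ d = tvu hK hw → ψ a = tvu hK hz → (Commute d a ↔ B w z = 0)

theorem exists_quot {F : Type*} [Field F] [Fintype F] (hF : Fintype.card F = 4) {n : ℕ} (hn : 4 ≤ n)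
    (hD : Trans D) (hZ : Subgroup.center G = ⊥)
    (e : G ⧸ pCore 2 G ≃* ↥(Cfsg.SU n F 2)) :
    Nonempty (Quot D (fourField (show Fintype.card F = 2 ^ 2 from hF))
      (hB (show Fintype.card F = 2 ^ 2 from hF) n)) := by
  classical
  have hF' : Fintype.card F = 2 ^ 2 := hF
  have hK := fourField hF'
  have hS := hB_isSymm hF' n
  have hND := hB_nondegenerate hF' n
  have h4 : 4 ≤ finrank F (Fin n → F) := by rwa [finrank_fin_fun]
  set π : G →* ↥(Cfsg.SU n F 2) := e.toMonoidHom.comp (QuotientGroup.mk' (pCore 2 G))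
  have hπs : Function.Surjective π := e.surjective.comp (QuotientGroup.mk'_surjective _)
  have hπ : ∀ g : G, π g = 1 ↔ g ∈ pCore 2 G := fun g =>
    (map_eq_one_iff e e.injective).trans (QuotientGroup.eq_one_iff g)
  set ψ : G →* ((Fin n → F) ≃ₗ[F] (Fin n → F)) := (model hF' n).comp π
  have hψ : ∀ g : G, ψ g = 1 ↔ g ∈ pCore 2 G := fun g =>
    (map_eq_one_iff _ (model_injective hF' n)).trans (hπ g)
  obtain ⟨v₀, hv₀, hiso₀⟩ : ∃ v : Fin n → F, v ≠ 0 ∧ hB hF' n v v = 0 := by
    have := (odd_card_isotropic hF' n (by omega)).pos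
    obtain ⟨⟨v, hv⟩⟩ := (Nat.card_pos_iff.1 this).1
    exact ⟨v, hv⟩
  have tdet : ∀ {w : Fin n → F} (hw : hB hF' n w w = 0), LinearEquiv.det (tvu hK hw) = 1 :=
    fun {w} hw => Units.ext (by rw [tvu, det_qrefl, hw, mul_zero, add_zero]; rfl)
  have tlift : ∀ {w : Fin n → F} (hw : hB hF' n w w = 0), ∃ g, ψ g = tvu hK hw := fun {w} hw => by
    obtain ⟨A, hA⟩ := model_surjective hF' n (tvu_mem hK hS hw) (tdet hw)
    obtain ⟨g, rfl⟩ := hπs A
    exact ⟨g, hA⟩
  have htwo : ∃ a ∈ D, ∃ b ∈ D, a ≠ b := by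
    by_contra h
    push Not at h
    obtain ⟨d, hd⟩ := hD.ne
    have hc : d ∈ Subgroup.center G := Subgroup.mem_center_iff.2 fun g =>
      mul_inv_eq_iff_eq_mul.1 (h _ (hD.conj g d hd) d hd)
    rw [hZ, Subgroup.mem_bot] at hc
    exact ne_one hD hd hc
  have hne : ∀ d ∈ D, d ∉ pCore 2 G := by
    intro d hd hdV
    have hle : Subgroup.closure D ≤ pCore 2 G := (Subgroup.closure_le _).2 fun x hx => by
      obtain ⟨g, rfl⟩ := hD.trans d hd x hx
      exact Subgroup.Normal.conj_mem inferInstance d hdV g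
    obtain ⟨g, hg⟩ := tlift hiso₀
    exact tvu_ne_one hK hS hND hiso₀ hv₀ (hg ▸ (hψ g).2 (hle (hD.gen ▸ Subgroup.mem_top g)))
  have hmem : ∀ g, ψ g ∈ iso (hB hF' n) := fun g => model_mem hF' n _
  -- every member maps to a transvection
  have hcentre : ∀ d ∈ D, ∃ (w : Fin n → F) (hw : hB hF' n w w = 0), w ≠ 0 ∧ ψ d = tvu hK hw := by
    intro d hd
    have h2 : ψ d * ψ d = 1 := by rw [← map_mul, mul_self hD hd, map_one]
    obtain ⟨a, ha⟩ := Unitary.rank_one_of_involution hK hS hND (hmem d) h2 (fun g hg hgd => by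
      obtain ⟨A, hA⟩ := model_surjective hF' n hg hgd
      obtain ⟨x, rfl⟩ := hπs A
      rw [← hA, show model hF' n (π x) = ψ x from rfl, ← map_inv, ← map_mul, ← map_mul, ← map_mul]
      rcases hD.set.2 d hd _ (hD.conj x d hd) with h | h
      · exact Or.inl (by rw [← map_pow, h, map_one])
      · exact Or.inr (by rw [← map_pow, h, map_one]))
    have hne1 : ψ d ≠ 1 := fun h => hne d hd ((hψ d).1 h)
    choose f hf using ha
    have ha0 : a ≠ 0 := by
      intro h0
      refine hne1 (LinearEquiv.ext fun x => ?_)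
      have := hf x
      rw [h0, smul_zero] at this
      rw [eq_neg_of_add_eq_zero_left this, Unitary.neg_smul_one hK hS]
      rfl
    have hfx : ∀ x, ψ d x = x + f x • a := fun x => by
      have hxx : x + x = 0 := by nth_rw 1 [← Unitary.neg_smul_one hK hS x]; rw [neg_add_cancel]
      rw [← hf x, add_comm (ψ d x), ← add_assoc, hxx, zero_add]
    let f' : (Fin n → F) →ₗ[F] F :=
      { toFun := f
        map_add' := fun x y => smul_left_injective F ha0 (by
          show f (x + y) • a = (f x + f y) • a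
          rw [add_smul, ← hf, ← hf, ← hf, map_add]; abel)
        map_smul' := fun c x => smul_left_injective F ha0 (by
          show f (c • x) • a = (c • f x) • a
          rw [smul_assoc, ← hf, ← hf, map_smul, smul_add]) }
    obtain ⟨hw, he⟩ := rank_one hK hS hND (hmem d) (model_det hF' n _) ha0 f' hfx hne1
    exact ⟨a, hw, ha0, he⟩
  -- every transvection is the image of a member
  have hevery : ∀ {w : Fin n → F} (hw : hB hF' n w w = 0), w ≠ 0 → ∃ d ∈ D, ψ d = tvu hK hw := by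
    intro w hw hw0
    obtain ⟨d, hd⟩ := hD.ne
    obtain ⟨a, ha, ha0, hda⟩ := hcentre d hd
    obtain ⟨g, hg, hgd, hga⟩ := special_trans hK hS hND h4 ha hw ha0 hw0
    obtain ⟨A, hA⟩ := model_surjective hF' n hg hgd
    obtain ⟨x, rfl⟩ := hπs A
    refine ⟨x * d * x⁻¹, hD.conj x d hd, ?_⟩
    rw [map_mul, map_mul, map_inv, show ψ x = g from hA, hda, tvu_conj hK hg]
    exact tvu_congr hK _ _ hga
  have hcomm : ∀ {d a : G} {w z : Fin n → F} (hw : hB hF' n w w = 0) (hz : hB hF' n z z = 0),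
      d ∈ D → a ∈ D → ψ d = tvu hK hw → ψ a = tvu hK hz → (Commute d a ↔ hB hF' n w z = 0) := by
    intro d a w z hw hz hd ha hdw haz
    constructor
    · intro hc
      by_contra hne'
      have h := (hc.map ψ).eq
      rw [hdw, haz] at h
      have hzw : hB hF' n z w ≠ 0 := fun h0 => hne' (hS.isRefl _ _ h0)
      have h' := congrArg (fun t : (Fin n → F) ≃ₗ[F] (Fin n → F) => hB hF' n z (t w)) h
      simp only [LinearEquiv.mul_apply, tvu_apply, map_add, map_smul, hw, hz, zero_smul, add_zero, smul_eq_mul,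
        mul_zero, zero_add, LinearMap.add_apply] at h'
      exact mul_ne_zero (mul_ne_zero hzw hne') hzw (by linear_combination h')
    · intro h0
      have hfix : tvu hK hw z = z := by rw [tvu_apply, h0, zero_smul, add_zero]
      have h := tvu_conj hK (tvu_mem hK hS hw) hz
      rw [tvu_congr hK _ hz hfix, mul_inv_eq_iff_eq_mul, ← hdw, ← haz] at h
      refine UniqueClass.commute_of_red_commute hD hd ha (e.injective (model_injective hF' n ?_))
      show model hF' n (e _) = model hF' n (e _)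
      rw [map_mul e, map_mul e, map_mul (model hF' n), map_mul (model hF' n)]
      exact h
  refine ⟨⟨ψ, hψ, hmem, fun g => model_det hF' n _, fun g hg hgd => ?_, hcentre, fun w hw => hevery hw,
    fun d a w z hw hz => hcomm hw hz⟩⟩
  obtain ⟨A, hA⟩ := model_surjective hF' n hg hgd
  obtain ⟨x, rfl⟩ := hπs A
  exact ⟨x, hA⟩

namespace Quot

variable {F V : Type*} [Field F] [Fintype F] [AddCommGroup V] [Module F V] [FiniteDimensional F V]
  {σ : F →+* F} {hK : FourField F σ} {B : V →ₛₗ[σ] V →ₗ[F] F} (Q : Quot D hK B)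

theorem side_le {d : G} (hd : d ∈ D) {w : V} (hw : B w w = 0) (hdw : Q.ψ d = tvu hK hw) :
    Unitary.side hK B w ≤ (Subgroup.closure (near D d)).map Q.ψ := by
  rw [Unitary.side, Subgroup.closure_le]
  rintro _ ⟨u, hu, hu0, hwu, rfl⟩
  obtain ⟨b, hb, hbu⟩ := Q.every u hu hu0
  exact ⟨b, Subgroup.subset_closure ⟨hb, (Q.comm d b w u hw hu hd hb hdw hbu).2 hwu⟩, hbu⟩

include Q in
/-- Incongruent non-commuting partners are joined by the side of a member. -/
theorem move (hS : B.IsSymm) (hND : B.Nondegenerate) (h5 : 5 ≤ finrank F V) :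
    ∀ d ∈ D, ∀ a ∈ D, ∀ c ∈ D, ¬ Commute d a → ¬ Commute d c →
      ∃ g ∈ Subgroup.closure (near D d), g * a * g⁻¹ * c ∈ pCore 2 G := by
  intro d hd a ha c hc hda hdc
  obtain ⟨w, hw, hw0, hdw⟩ := Q.centre d hd
  obtain ⟨y, hy, hy0, hay⟩ := Q.centre a ha
  obtain ⟨z, hz, hz0, hcz⟩ := Q.centre c hc
  have norm1 : ∀ {y : V} (hy : B y y = 0), B w y ≠ 0 →
      ∃ (y' : V) (hy' : B y' y' = 0), B w y' = 1 ∧ tvu hK hy' = tvu hK hy := by
    intro y hy hne'
    have hk : (B w y)⁻¹ ≠ 0 := inv_ne_zero hne'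
    have hy' : B ((B w y)⁻¹ • y) ((B w y)⁻¹ • y) = 0 := by
      rw [map_smul, LinearMap.map_smulₛₗ, LinearMap.smul_apply, hy, smul_zero, smul_zero]
    exact ⟨_, hy', by rw [map_smul, smul_eq_mul, inv_mul_cancel₀ hne'], tvu_smul hK hy hk hy'⟩
  obtain ⟨y', hy', hwy, hey⟩ := norm1 hy (fun h => hda ((Q.comm d a w y hw hy hd ha hdw hay).2 h))
  obtain ⟨z', hz', hwz, hez⟩ := norm1 hz (fun h => hdc ((Q.comm d c w z hw hz hd hc hdw hcz).2 h))
  obtain ⟨t, ht, hty⟩ := Unitary.transitive hK hS hND h5 hw hy' hwy hz' hwz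
  obtain ⟨g, hg, rfl⟩ := Q.side_le hd hw hdw ht
  refine ⟨g, hg, (Q.ker _).1 ?_⟩
  rw [map_mul, map_mul, map_mul, map_inv, hay, ← hey, tvu_conj hK (Q.mem g), hcz, ← hez,
    tvu_congr hK _ hz' hty]
  exact tvu_sq hK hz'

include Q in
theorem hyp (hS : B.IsSymm) (hND : B.Nondegenerate) (h5 : 5 ≤ finrank F V) (hD : Trans D)
    (hZ : Subgroup.center G = ⊥) (hC : Subgroup.centralizer (pCore 2 G : Set G) ≤ pCore 2 G) : Hyp D := by
  refine ⟨hD, ?_, Q.move hS hND h5, hC, hZ⟩
  by_contra h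
  push Not at h
  obtain ⟨d, hd⟩ := hD.ne
  have hc : d ∈ Subgroup.center G := Subgroup.mem_center_iff.2 fun g =>
    mul_inv_eq_iff_eq_mul.1 (h _ (hD.conj g d hd) d hd)
  rw [hZ, Subgroup.mem_bot] at hc
  exact ne_one hD hd hc

/-- The index of a subgroup above the core whose image contains the stabilizer of an isotropic vector. -/
theorem index_dvd (hS : B.IsSymm) (hND : B.Nondegenerate) (h4 : 4 ≤ finrank F V) (K : Subgroup G)
    (hV : pCore 2 G ≤ K) {w : V} (hw : B w w = 0) (hw0 : w ≠ 0)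
    (hst : ∀ g ∈ iso B, LinearEquiv.det g = 1 → g w = w → g ∈ K.map Q.ψ) :
    K.index ∣ Nat.card {v : V // v ≠ 0 ∧ B v v = 0} := by
  let act : MulAction G V := MulAction.compHom _ Q.ψ
  have hle : MulAction.stabilizer G w ≤ K := by
    intro x hx
    obtain ⟨k, hk, hkx⟩ := hst _ (Q.mem x) (Q.det x) hx
    have h1 : k⁻¹ * x ∈ pCore 2 G := (Q.ker _).1 (by rw [map_mul, map_inv, hkx, inv_mul_cancel])
    have h2 := mul_mem hk (hV h1)
    rwa [mul_inv_cancel_left] at h2
  refine dvd_trans (Subgroup.index_dvd_of_le hle) (dvd_of_eq ?_)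
  rw [MulAction.index_stabilizer, ← Nat.card_coe_set_eq]
  refine Nat.card_congr (Equiv.setCongr ?_)
  ext v
  constructor
  · rintro ⟨x, rfl⟩
    exact ⟨(LinearEquiv.map_ne_zero_iff (Q.ψ x)).2 hw0, by
      show B (Q.ψ x w) (Q.ψ x w) = 0
      rw [Q.mem x w w, hw]⟩
  · rintro ⟨hv0, hv⟩
    obtain ⟨g, hg, hgd, hgv⟩ := special_trans hK hS hND h4 hw hv hw0 hv0
    obtain ⟨x, hx⟩ := Q.surj g hg hgd
    exact ⟨x, show Q.ψ x w = v by rw [hx, hgv]⟩

end Quot

/-- The 2-core is elementary abelian when the quotient is a unitary group of degree at least seven. -/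
theorem elementaryAbelian_of_su {F : Type*} [Field F] [Fintype F] (hF : Fintype.card F = 4) {n : ℕ} (hn : 6 ≤ n)
    (hD : Trans D) (hZ : Subgroup.center G = ⊥)
    (hC : Subgroup.centralizer (pCore 2 G : Set G) ≤ pCore 2 G)
    (e : G ⧸ pCore 2 G ≃* ↥(Cfsg.SU n F 2)) : Cfsg.IsElementaryAbelian 2 (pCore 2 G) := by
  have hF' : Fintype.card F = 2 ^ 2 := hF
  have hK := fourField hF'
  have hS := hB_isSymm hF' n
  have hND := hB_nondegenerate hF' n
  have h6 : 6 ≤ finrank F (Fin n → F) := by rwa [finrank_fin_fun]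
  obtain ⟨Q⟩ := exists_quot hF (show 4 ≤ n by omega) hD hZ e
  have S := Q.hyp hS hND (by omega) hD hZ hC
  refine isElementaryAbelian S (covers_of_odd S fun d hd => ?_)
  obtain ⟨w, hw, hw0, hdw⟩ := Q.centre d hd
  refine (odd_card_isotropic hF' n (by omega)).of_dvd_nat
    (Q.index_dvd hS hND (by omega) _ le_sup_right hw hw0 fun g hg hgd hgw => ?_)
  exact Subgroup.map_mono le_sup_left (Q.side_le hd hw hdw
    (Unitary.stabilizer_le hK hS hND h6 hw hw0 hg hgd hgw))

end Cfsg.Lib.Fischer.RadicalAbelian
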