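import Cfsg.Agent.Lib.Fischer.Classes
import Cfsg.Agent.Lib.Core.Layer
import Mathlib.GroupTheory.Transfer

/-!
# When the 2-core of a group generated by 3-transpositions is elementary abelian
-/

set_option autoImplicit false
set_option linter.style.haveILetI false

namespace Cfsg.Lib.Fischer.RadicalAbelian

open Cfsg Cfsg.Lib.Fischer

variable {G : Type*} [Group G] {D : Set G}

/-- The members commuting with `d`. -/
def near (D : Set G) (d : G) : Set G := {e | e ∈ D ∧ Commute d e}

/-- The subgroup spanned by the products of pairs of members congruent modulo the 2-core. -/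
def pairs (D : Set G) : Subgroup G :=
  Subgroup.closure {z | ∃ d ∈ D, ∃ d' ∈ D, d * d' ∈ pCore 2 G ∧ z = d * d'}

/-- The centralizer side of every member covers the 2-core modulo the pairs. -/
def Covers (D : Set G) : Prop := ∀ d ∈ D, pCore 2 G ≤ Subgroup.closure (near D d) ⊔ pairs D

/-- The incidence hypotheses: the centralizer side is transitive on the other members. -/
structure Hyp (D : Set G) : Prop where
  trans : Trans D
  two : ∃ a ∈ D, ∃ b ∈ D, a ≠ b
  move : ∀ d ∈ D, ∀ a ∈ D, ∀ e ∈ D, ¬ Commute d a → ¬ Commute d e →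
    ∃ g ∈ Subgroup.closure (near D d), g * a * g⁻¹ * e ∈ pCore 2 G
  self : Subgroup.centralizer (pCore 2 G : Set G) ≤ pCore 2 G
  centerless : Subgroup.center G = ⊥

variable [Finite G]

theorem commute_of_congr (hD : Trans D) {d d' e : G} (hd : d ∈ D) (hd' : d' ∈ D) (he : e ∈ D)
    (h : d * d' ∈ pCore 2 G) (hc : Commute d e) : Commute d' e :=
  (((sameComm_iff hD hd hd').2 h) e he).1 hc |> id

omit [Finite G] in
theorem conj_congr (hD : Trans D) {b w : G} (hb : b ∈ D) (hw : w ∈ pCore 2 G) :
    b * (w * b * w⁻¹) ∈ pCore 2 G :=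
  mul_conj_mem hD hb hw

variable (S : Hyp D)
include S

theorem pairs_le : pairs D ≤ pCore 2 G := by
  rw [pairs, Subgroup.closure_le]
  rintro _ ⟨d, -, d', -, h, rfl⟩
  exact h

/-- The commutator of two pair products is fixed by every member commuting with one of the two classes. -/
theorem fix_commutator {d d' a a' b : G} (hd : d ∈ D) (hd' : d' ∈ D) (ha : a ∈ D) (ha' : a' ∈ D)
    (hdd : d * d' ∈ pCore 2 G) (haa : a * a' ∈ pCore 2 G) (hb : b ∈ D) (hc : Commute d b) :
    Commute b ((d * d') * (a * a') * (d * d')⁻¹ * (a * a')⁻¹) := by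
  have hD := S.trans
  set y := d * d'
  set w := a * a'
  have hby : ∀ {x : G}, x ∈ D → Commute d x → Commute x y := fun hx hdx =>
    hdx.symm.mul_right (commute_of_congr hD hd hd' hx hdd hdx).symm
  have hb' : w⁻¹ * b * w ∈ D := by simpa using hD.conj w⁻¹ b hb
  have hdb' : Commute d (w⁻¹ * b * w) :=
    ((commute_of_congr hD hb hb' hd (by simpa using conj_congr hD hb (inv_mem haa)) hc.symm)).symm
  have hu : Commute (w⁻¹ * b * w * b) y := (hby hb' hdb').mul_left (hby hb hc)
  have hby' : b * y * b⁻¹ = y := by rw [(hby hb hc).eq, mul_inv_cancel_right]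
  have hbw : b * w * b⁻¹ = w * (w⁻¹ * b * w * b) := by
    rw [inv_eq hD hb]; group
  have e : b * (y * w * y⁻¹ * w⁻¹) * b⁻¹ =
      (b * y * b⁻¹) * (b * w * b⁻¹) * (b * y * b⁻¹)⁻¹ * (b * w * b⁻¹)⁻¹ := by group
  rw [hby', hbw] at e
  set u := w⁻¹ * b * w * b
  have hu' : u * y⁻¹ = y⁻¹ * u := (hu.inv_right).eq
  refine mul_inv_eq_iff_eq_mul.1 (e.trans ?_)
  calc y * (w * u) * y⁻¹ * (w * u)⁻¹ = y * w * (u * y⁻¹) * u⁻¹ * w⁻¹ := by group
    _ = _ := by rw [hu']; group

theorem commute_pairs {d d' a a' : G} (hd : d ∈ D) (hd' : d' ∈ D) (ha : a ∈ D) (ha' : a' ∈ D)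
    (hdd : d * d' ∈ pCore 2 G) (haa : a * a' ∈ pCore 2 G) : Commute (d * d') (a * a') := by
  have hD := S.trans
  by_cases hda : Commute d a
  · have h1 := commute_of_congr hD hd hd' ha hdd hda
    have h2 : Commute a' d := commute_of_congr hD ha ha' hd haa hda.symm
    have h3 : Commute a' d' := commute_of_congr hD ha ha' hd' haa h1.symm
    exact (hda.mul_left h1).mul_right (h2.symm.mul_left h3.symm)
  set z := (d * d') * (a * a') * (d * d')⁻¹ * (a * a')⁻¹ with hz
  have hfix1 : ∀ b ∈ D, Commute d b → Commute b z := fun b hb hc =>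
    fix_commutator S hd hd' ha ha' hdd haa hb hc
  have hfix2 : ∀ b ∈ D, Commute a b → Commute b z := fun b hb hc => by
    have h := (fix_commutator S ha ha' hd hd' haa hdd hb hc).inv_right
    have e : ((a * a') * (d * d') * (a * a')⁻¹ * (d * d')⁻¹)⁻¹ = z := by rw [hz]; group
    rwa [e] at h
  have hall : ∀ e ∈ D, Commute e z := by
    intro e he
    by_cases hde : Commute d e
    · exact hfix1 e he hde
    obtain ⟨g, hg, hge⟩ := S.move d hd a ha e he hda hde
    have hgz : Commute g z := by
      clear hge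
      induction hg using Subgroup.closure_induction with
      | mem x hx => exact hfix1 x hx.1 hx.2
      | one => exact Commute.one_left z
      | mul x y _ _ hx hy => exact hx.mul_left hy
      | inv x _ hx => exact hx.inv_left
    have hga : g * a * g⁻¹ ∈ D := hD.conj g a ha
    have hb : g⁻¹ * e * g ∈ D := by simpa using hD.conj g⁻¹ e he
    have hab : a * (g⁻¹ * e * g) ∈ pCore 2 G := by
      have := Subgroup.Normal.conj_mem inferInstance _ hge g⁻¹
      simpa [mul_assoc] using this
    have h1 := hfix2 _ hb (commute_of_congr hD ha hb ha hab (Commute.refl a)).symm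
    have h2 := (hgz.mul_left h1).mul_left hgz.inv_left
    rwa [show g * (g⁻¹ * e * g) * g⁻¹ = e by group] at h2
  have hc : z ∈ Subgroup.center G := Subgroup.mem_center_iff.2 fun x => by
    have hx : x ∈ Subgroup.closure D := hD.gen ▸ Subgroup.mem_top x
    induction hx using Subgroup.closure_induction with
    | mem u hu => exact (hall u hu).eq
    | one => simp
    | mul u v _ _ iu iv => exact (Commute.mul_left iu iv).eq
    | inv u _ iu => exact (Commute.inv_left iu).eq
  rw [S.centerless, Subgroup.mem_bot, hz, mul_inv_eq_one, mul_inv_eq_iff_eq_mul] at hc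
  exact hc

theorem pairs_comm : IsMulCommutative (pairs D) :=
  Subgroup.isMulCommutative_closure (by
    rintro _ ⟨d, hd, d', hd', h, rfl⟩ _ ⟨a, ha, a', ha', h', rfl⟩
    exact commute_pairs S hd hd' ha ha' h h')

theorem pairs_sq {x : G} (hx : x ∈ pairs D) : x * x = 1 := by
  have hD := S.trans
  haveI := pairs_comm S
  induction hx using Subgroup.closure_induction with
  | mem z hz =>
    obtain ⟨d, hd, d', hd', h, rfl⟩ := hz
    have hc : Commute d d' := commute_of_mem_two hD hd hd' h
    rw [← pow_two, hc.mul_pow, pow_two, pow_two, mul_self hD hd, mul_self hD hd', one_mul]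
  | one => simp
  | mul a b ha hb iha ihb =>
    have hcom : Commute a b := congrArg Subtype.val (mul_comm' (⟨a, ha⟩ : pairs D) ⟨b, hb⟩)
    rw [← pow_two, hcom.mul_pow, pow_two, pow_two, iha, ihb, one_mul]
  | inv a _ iha => rw [← mul_inv_rev, iha, inv_one]

theorem pairs_normal : (pairs D).Normal := by
  refine ⟨fun x hx g => ?_⟩
  have hD := S.trans
  induction hx using Subgroup.closure_induction with
  | mem z hz =>
    obtain ⟨d, hd, d', hd', h, rfl⟩ := hz
    refine Subgroup.subset_closure ⟨_, hD.conj g d hd, _, hD.conj g d' hd', ?_, by group⟩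
    have := Subgroup.Normal.conj_mem inferInstance _ h g
    simpa [mul_assoc] using this
  | one => simp
  | mul a b _ _ iha ihb => simpa [mul_assoc] using mul_mem iha ihb
  | inv a _ iha => simpa [mul_assoc] using inv_mem iha

/-- Elements of the core commute with members modulo the pairs. -/
theorem commutator_mem {v : G} (hv : v ∈ pCore 2 G) {d : G} (hd : d ∈ D) :
    d * v * d⁻¹ * v⁻¹ ∈ pairs D := by
  refine Subgroup.subset_closure ⟨d, hd, v * d * v⁻¹, S.trans.conj v d hd, conj_congr S.trans hd hv, ?_⟩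
  rw [inv_eq S.trans hd]; group

theorem commutator_mem_all {v : G} (hv : v ∈ pCore 2 G) (g : G) : g * v * g⁻¹ * v⁻¹ ∈ pairs D := by
  haveI := pairs_normal S
  have hg : g ∈ Subgroup.closure D := S.trans.gen ▸ Subgroup.mem_top g
  induction hg using Subgroup.closure_induction with
  | mem d hd => exact commutator_mem S hv hd
  | one => simp
  | mul a b _ _ ha hb =>
    have := mul_mem (Subgroup.Normal.conj_mem inferInstance _ hb a) ha
    simpa [mul_assoc] using this
  | inv a _ ha =>
    have := inv_mem (Subgroup.Normal.conj_mem inferInstance _ ha a⁻¹)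
    simpa [mul_assoc] using this

/-- A subgroup `H` containing the members commuting with `d` and the pairs contains the core, as soon as a
subgroup of odd index centralizing `d` modulo the core has abelian quotient over it. -/
theorem core_le {d : G} (hd : d ∈ D) (H K : Subgroup G)
    (hnear : Subgroup.closure (near D d) ≤ H) (hpairs : pairs D ≤ H) (hHK : H ≤ K)
    (hV : pCore 2 G ≤ K) (hodd : Odd K.index)
    (hcen : ∀ g ∈ K, Commute (QuotientGroup.mk' (pCore 2 G) d) (QuotientGroup.mk' (pCore 2 G) g))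
    (habel : ∀ x ∈ K, ∀ y ∈ K, x * y * x⁻¹ * y⁻¹ ∈ H) :
    pCore 2 G ≤ H := by
  classical
  have hD := S.trans
  haveI := pairs_normal S
  haveI hN : (H.subgroupOf K).Normal := by
    refine ⟨fun h hh g => ?_⟩
    rw [Subgroup.mem_subgroupOf] at hh ⊢
    have := mul_mem (habel _ g.2 _ h.2) hh
    simpa [mul_assoc] using this
  haveI : IsMulCommutative (K ⧸ H.subgroupOf K) := ⟨⟨fun x y => by
    induction x using QuotientGroup.induction_on with | _ x => ?_
    induction y using QuotientGroup.induction_on with | _ y => ?_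
    rw [← QuotientGroup.mk_mul, ← QuotientGroup.mk_mul, QuotientGroup.eq, Subgroup.mem_subgroupOf]
    have h1 := habel _ (inv_mem y.2) _ (inv_mem x.2)
    simpa [mul_assoc] using h1⟩⟩
  open scoped IsMulCommutative in
  let φ : K →* K ⧸ H.subgroupOf K := QuotientGroup.mk' _
  have hφ : ∀ (x : K), φ x = 1 ↔ (x : G) ∈ H := fun x =>
    (QuotientGroup.eq_one_iff x).trans Subgroup.mem_subgroupOf
  open scoped IsMulCommutative in
  have hτ : ∀ e ∈ D, MonoidHom.transfer φ e = 1 := by
    intro e he
    letI := Fintype.ofFinite (Quotient (MulAction.orbitRel (Subgroup.zpowers e) (G ⧸ K)))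
    rw [MonoidHom.transfer_eq_prod_quotient_orbitRel_zpowers_quot]
    refine Finset.prod_eq_one fun q _ => (hφ _).2 ?_
    have hmem := QuotientGroup.out_conj_pow_minimalPeriod_mem K e q.out
    set g := q.out.out
    set k := Function.minimalPeriod (e • ·) q.out
    show g⁻¹ * e ^ k * g ∈ H
    rcases Nat.even_or_odd k with ⟨m, hm⟩ | ⟨m, hm⟩
    · rw [hm, ← two_mul, pow_mul, pow_two, mul_self hD he, one_pow, mul_one, inv_mul_cancel]
      exact one_mem _
    · rw [hm, pow_succ, pow_mul, pow_two, mul_self hD he, one_pow, one_mul] at hmem ⊢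
      have he' : g⁻¹ * e * g ∈ D := by simpa using hD.conj g⁻¹ e he
      refine hnear (Subgroup.subset_closure ⟨he', ?_⟩)
      by_contra hn
      have h3 : ((QuotientGroup.mk' (pCore 2 G)) (d * (g⁻¹ * e * g))) ^ 3 = 1 := by
        rw [← map_pow, orderOf_mul hD d _ hd he' hn, map_one]
      have h2 : ((QuotientGroup.mk' (pCore 2 G)) (d * (g⁻¹ * e * g))) ^ 2 = 1 := by
        rw [map_mul, (hcen _ hmem).mul_pow, ← map_pow, ← map_pow, pow_two, pow_two, mul_self hD hd,
          mul_self hD he', map_one, one_mul]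
      rw [pow_succ, h2, one_mul] at h3
      exact hn (commute_of_mem_two hD hd he' ((QuotientGroup.eq_one_iff _).1 h3))
  open scoped IsMulCommutative in
  have hτ1 : ∀ x : G, MonoidHom.transfer φ x = 1 := fun x => by
    have hx : x ∈ Subgroup.closure D := hD.gen ▸ Subgroup.mem_top x
    induction hx using Subgroup.closure_induction with
    | mem u hu => exact hτ u hu
    | one => exact map_one _
    | mul u v _ _ iu iv => rw [map_mul, iu, iv, one_mul]
    | inv u _ iu => rw [map_inv, iu, inv_one]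
  intro v hv
  have hvK : v ∈ K := hV hv
  have hfix : ∀ q : G ⧸ K, v • q = q := fun q => by
    induction q using QuotientGroup.induction_on with | _ g => ?_
    show ((v * g : G) : G ⧸ K) = (g : G ⧸ K)
    rw [QuotientGroup.eq]
    have : g⁻¹ * v⁻¹ * g ∈ pCore 2 G := by
      simpa using Subgroup.Normal.conj_mem inferInstance _ (inv_mem hv) g⁻¹
    simpa [mul_assoc] using hV this
  open scoped IsMulCommutative in
  have hpow : φ ⟨v, hvK⟩ ^ K.index = 1 := by
    letI := Fintype.ofFinite (Quotient (MulAction.orbitRel (Subgroup.zpowers v) (G ⧸ K)))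
    rw [← hτ1 v, MonoidHom.transfer_eq_prod_quotient_orbitRel_zpowers_quot]
    have hper : ∀ q : G ⧸ K, Function.minimalPeriod (v • ·) q = 1 := fun q =>
      Function.minimalPeriod_eq_one_iff_isFixedPt.2 (hfix q)
    have hterm : ∀ (q : Quotient (MulAction.orbitRel (Subgroup.zpowers v) (G ⧸ K))),
        φ ⟨q.out.out⁻¹ * v ^ Function.minimalPeriod (v • ·) q.out * q.out.out,
          QuotientGroup.out_conj_pow_minimalPeriod_mem K v q.out⟩ = φ ⟨v, hvK⟩ := by
      intro q
      refine QuotientGroup.eq.2 (Subgroup.mem_subgroupOf.2 ?_)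
      show (q.out.out⁻¹ * v ^ Function.minimalPeriod (v • ·) q.out * q.out.out)⁻¹ * v ∈ H
      rw [hper, pow_one]
      have := hpairs (commutator_mem_all S (inv_mem hv) q.out.out⁻¹)
      simpa [mul_assoc] using this
    rw [Finset.prod_congr rfl fun q _ => hterm q, Finset.prod_const, Finset.card_univ]
    congr 1
    letI := Fintype.ofFinite (G ⧸ K)
    rw [Subgroup.index, Nat.card_eq_fintype_card]
    refine Fintype.card_congr (Equiv.ofBijective (fun q => Quotient.mk'' q) ⟨fun a b h => ?_, fun q => ⟨q.out, Quotient.out_eq' q⟩⟩)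
    obtain ⟨⟨u, hu⟩, hub⟩ := Quotient.eq''.1 h
    obtain ⟨k, rfl⟩ := Subgroup.mem_zpowers_iff.1 hu
    rw [← hub]
    have hmem : v ∈ MulAction.stabilizer G b := hfix b
    exact (zpow_mem hmem k : _)
  obtain ⟨k, hk⟩ := Lib.Core.pCore_isPGroup 2 G ⟨v, hv⟩
  have hk' : φ ⟨v, hvK⟩ ^ 2 ^ k = 1 := by
    rw [← map_pow, show (⟨v, hvK⟩ : K) ^ 2 ^ k = 1 from Subtype.ext (by
      simpa using congrArg Subtype.val hk), map_one]
  have hone : φ ⟨v, hvK⟩ = 1 := orderOf_eq_one_iff.1 (Nat.eq_one_of_dvd_coprimes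
    ((Nat.coprime_two_left.2 hodd).pow_left k) (orderOf_dvd_of_pow_eq_one hk')
    (orderOf_dvd_of_pow_eq_one hpow))
  exact (hφ _).1 hone

/-- The covering hypothesis when the members commuting with `d` span a subgroup of odd index. -/
theorem covers_of_odd (hodd : ∀ d ∈ D, Odd (Subgroup.closure (near D d) ⊔ pCore 2 G).index) : Covers D := by
  intro d hd
  haveI := pairs_normal S
  set H := Subgroup.closure (near D d) ⊔ pairs D
  set K := Subgroup.closure (near D d) ⊔ pCore 2 G
  have hconj : ∀ v ∈ pCore 2 G, ∀ h ∈ H, v * h * v⁻¹ ∈ H := by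
    intro v hv h hh
    have e : v * h * v⁻¹ = (h * v * h⁻¹ * v⁻¹)⁻¹ * h := by group
    rw [e]
    exact mul_mem (inv_mem (Subgroup.mem_sup_right (commutator_mem_all S hv h))) hh
  refine core_le S hd H K le_sup_left le_sup_right (sup_le_sup_left (pairs_le S) _) le_sup_right
    (hodd d hd) (fun g hg => ?_) (fun x hx y hy => ?_)
  · obtain ⟨h, hh, v, hv, rfl⟩ := Subgroup.mem_sup_of_normal_right.1 hg
    rw [map_mul, show QuotientGroup.mk' (pCore 2 G) v = 1 from (QuotientGroup.eq_one_iff v).2 hv, mul_one]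
    refine Commute.map ?_ _
    clear hg
    induction hh using Subgroup.closure_induction with
    | mem x hx => exact hx.2
    | one => exact Commute.one_right d
    | mul x y _ _ hx hy => exact hx.mul_right hy
    | inv x _ hx => exact hx.inv_right
  · obtain ⟨h, hh, v, hv, rfl⟩ := Subgroup.mem_sup_of_normal_right.1 hx
    obtain ⟨h', hh', v', hv', rfl⟩ := Subgroup.mem_sup_of_normal_right.1 hy
    have e : h * v * (h' * v') * (h * v)⁻¹ * (h' * v')⁻¹ =
        h * (v * h' * v⁻¹) * (v * v' * v⁻¹ * v'⁻¹) * (v' * h⁻¹ * v'⁻¹) * h'⁻¹ := by group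
    rw [e]
    have hh0 : h ∈ H := Subgroup.mem_sup_left hh
    have hh0' : h' ∈ H := Subgroup.mem_sup_left hh'
    exact mul_mem (mul_mem (mul_mem (mul_mem hh0 (hconj v hv _ hh0'))
      (Subgroup.mem_sup_right (commutator_mem_all S hv' v))) (hconj v' hv' _ (inv_mem hh0))) (inv_mem hh0')

/-- The core centralizes the pairs. -/
theorem core_centralizes (hcov : Covers D) {v y : G} (hv : v ∈ pCore 2 G) (hy : y ∈ pairs D) : Commute v y := by
  have hD := S.trans
  haveI := pairs_normal S
  haveI := pairs_comm S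
  have key : ∀ d ∈ D, ∀ h ∈ Subgroup.closure (near D d), ∀ x ∈ pairs D, Commute d (x⁻¹ * (h * x * h⁻¹)) := by
    intro d hd h hh
    induction hh using Subgroup.closure_induction with
    | mem b hb =>
      intro x hx
      have hb' : x⁻¹ * b * x ∈ D := by simpa using hD.conj x⁻¹ b hb.1
      have hcong : b * (x⁻¹ * b * x) ∈ pCore 2 G := by
        simpa using conj_congr hD hb.1 (inv_mem (pairs_le S hx))
      have h1 : Commute d (x⁻¹ * b * x) := (commute_of_congr hD hb.1 hb' hd hcong hb.2.symm).symm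
      have h2 := h1.mul_right hb.2
      rwa [inv_eq hD hb.1, show x⁻¹ * (b * x * b) = x⁻¹ * b * x * b by simp only [mul_assoc]]
    | one => intro x _; simpa using Commute.one_right d
    | mul p r _ _ ihp ihr =>
      intro x hx
      have h1 := (ihr x hx).mul_right (ihp _ (Subgroup.Normal.conj_mem inferInstance x hx r))
      have e : x⁻¹ * (r * x * r⁻¹) * ((r * x * r⁻¹)⁻¹ * (p * (r * x * r⁻¹) * p⁻¹)) =
          x⁻¹ * (p * r * x * (p * r)⁻¹) := by group
      rwa [e] at h1
    | inv p _ ihp =>
      intro x hx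
      have h1 := (ihp _ (Subgroup.Normal.conj_mem inferInstance x hx p⁻¹)).inv_right
      simpa [mul_assoc] using h1
  have hcen : y⁻¹ * (v * y * v⁻¹) ∈ Subgroup.center G := Subgroup.mem_center_iff.2 fun g => by
    have hg : g ∈ Subgroup.closure D := hD.gen ▸ Subgroup.mem_top g
    induction hg using Subgroup.closure_induction with
    | mem d hd =>
      obtain ⟨h, hh, w, hw, rfl⟩ := Subgroup.mem_sup_of_normal_right.1 (hcov d hd hv)
      have hwy : w * y * w⁻¹ = y := by
        rw [show Commute w y from congrArg Subtype.val (mul_comm' (⟨w, hw⟩ : pairs D) ⟨y, hy⟩),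
          mul_inv_cancel_right]
      have e : h * w * y * (h * w)⁻¹ = h * (w * y * w⁻¹) * h⁻¹ := by group
      rw [e, hwy]
      exact (key d hd h hh y hy).eq
    | one => simp
    | mul a b _ _ ia ib => exact (Commute.mul_left ia ib).eq
    | inv a _ ia => exact (Commute.inv_left ia).eq
  rw [S.centerless, Subgroup.mem_bot, inv_mul_eq_one] at hcen
  exact (eq_mul_inv_iff_mul_eq.1 hcen).symm

theorem mem_center_of_commute {z : G} (h : ∀ d ∈ D, Commute d z) : z = 1 := by
  have hc : z ∈ Subgroup.center G := Subgroup.mem_center_iff.2 fun g => by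
    have hg : g ∈ Subgroup.closure D := S.trans.gen ▸ Subgroup.mem_top g
    induction hg using Subgroup.closure_induction with
    | mem u hu => exact (h u hu).eq
    | one => simp
    | mul u v _ _ iu iv => exact (Commute.mul_left iu iv).eq
    | inv u _ iu => exact (Commute.inv_left iu).eq
  rwa [S.centerless, Subgroup.mem_bot] at hc

/-- The 2-core is elementary abelian. -/
theorem isElementaryAbelian (hcov : Covers D) : Cfsg.IsElementaryAbelian 2 (pCore 2 G) := by
  haveI := pairs_comm S
  have hW : ∀ {u x : G}, u ∈ pairs D → x ∈ pairs D → Commute u x := fun hu hx =>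
    congrArg Subtype.val (mul_comm' (⟨_, hu⟩ : pairs D) ⟨_, hx⟩)
  have hcomm : ∀ v ∈ pCore 2 G, ∀ v' ∈ pCore 2 G, Commute v v' := by
    intro v hv v' hv'
    have hz : v * v' * v⁻¹ * v'⁻¹ = 1 := mem_center_of_commute S fun d hd => by
      set s := d * v * d⁻¹ * v⁻¹
      set s' := d * v' * d⁻¹ * v'⁻¹
      have hs : s ∈ pairs D := commutator_mem S hv hd
      have hs' : s' ∈ pairs D := commutator_mem S hv' hd
      have e : d * (v * v' * v⁻¹ * v'⁻¹) * d⁻¹ = (s * v) * (s' * v') * (s * v)⁻¹ * (s' * v')⁻¹ := by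
        simp only [s, s']; group
      refine mul_inv_eq_iff_eq_mul.1 (e.trans ?_)
      have a1 : v * s' = s' * v := (core_centralizes S hcov hv hs').eq
      have a2 : v' * s⁻¹ = s⁻¹ * v' := (core_centralizes S hcov hv' (inv_mem hs)).eq
      have a3 : v⁻¹ * s⁻¹ = s⁻¹ * v⁻¹ := (core_centralizes S hcov (inv_mem hv) (inv_mem hs)).eq
      have a4 : v * s⁻¹ = s⁻¹ * v := (core_centralizes S hcov hv (inv_mem hs)).eq
      have a5 : s * s' * s⁻¹ = s' := by rw [(hW hs hs').eq, mul_inv_cancel_right]
      have a6 : Commute (v * v' * v⁻¹ * v'⁻¹) s' :=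
        (((core_centralizes S hcov hv hs').mul_left (core_centralizes S hcov hv' hs')).mul_left
          (core_centralizes S hcov (inv_mem hv) hs')).mul_left (core_centralizes S hcov (inv_mem hv') hs')
      calc (s * v) * (s' * v') * (s * v)⁻¹ * (s' * v')⁻¹
          = s * (v * s') * v' * (v⁻¹ * s⁻¹) * v'⁻¹ * s'⁻¹ := by group
        _ = s * (s' * v) * v' * (s⁻¹ * v⁻¹) * v'⁻¹ * s'⁻¹ := by rw [a1, a3]
        _ = s * s' * v * (v' * s⁻¹) * v⁻¹ * v'⁻¹ * s'⁻¹ := by group
        _ = s * s' * v * (s⁻¹ * v') * v⁻¹ * v'⁻¹ * s'⁻¹ := by rw [a2]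
        _ = s * s' * (v * s⁻¹) * v' * v⁻¹ * v'⁻¹ * s'⁻¹ := by group
        _ = s * s' * (s⁻¹ * v) * v' * v⁻¹ * v'⁻¹ * s'⁻¹ := by rw [a4]
        _ = (s * s' * s⁻¹) * (v * v' * v⁻¹ * v'⁻¹) * s'⁻¹ := by group
        _ = _ := by rw [a5, ← a6.eq, mul_inv_cancel_right]
    rw [mul_inv_eq_one, mul_inv_eq_iff_eq_mul] at hz
    exact hz
  refine ⟨⟨⟨fun a b => Subtype.ext (hcomm a a.2 b b.2).eq⟩⟩, fun v hv => mem_center_of_commute S fun d hd => ?_⟩
  have hs := commutator_mem S hv hd
  have e : d * v ^ 2 * d⁻¹ = ((d * v * d⁻¹ * v⁻¹) * v) ^ 2 := by rw [pow_two, pow_two]; group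
  refine mul_inv_eq_iff_eq_mul.1 (e.trans ?_)
  rw [(hcomm _ (pairs_le S hs) _ hv).mul_pow, pow_two (d * v * d⁻¹ * v⁻¹), pairs_sq S hs, one_mul]

end Cfsg.Lib.Fischer.RadicalAbelian
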