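import Cfsg.Agent.Lib.Fischer.UniqueClass.Basic

/-!
# A complement to the 2-core from an element twisting the members

An element `z` without fixed points on an abelian 2-core picks in every congruence class one member `a`
with `a z a` centralizing `z`; these members are closed under conjugation and span a complement.
-/

set_option autoImplicit false
set_option linter.style.haveILetI false
set_option linter.unusedSectionVars false

namespace Cfsg.Lib.Fischer.RadicalAbelian

open Cfsg Cfsg.Lib.Fischer Cfsg.Lib.Fischer.UniqueClass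

variable {G : Type*} [Group G]

/-- Being centralized by `z` modulo the 2-core. -/
abbrev Fixed (z d : G) : Prop := Commute (red z) (red d)

/-- The incidence properties of a twisting element. -/
structure Twist (D : Set G) (z : G) : Prop where
  rot : ∀ p ∈ D, ¬ Fixed z p → ∃ h ∈ Subgroup.closure {e | e ∈ D ∧ Commute p e ∧ Commute (z * p * z⁻¹) e},
    red z = red (p * (z * p * z⁻¹) * h)
  out : ∀ d ∈ D, Fixed z d → ∃ a ∈ D, ¬ Fixed z a ∧ ¬ Fixed z (cj a d)
  two : ∀ d ∈ D, ∀ b ∈ D, ¬ Fixed z d → ¬ Fixed z b → ∃ a1 ∈ D, ∃ a2 ∈ D, Fixed z a1 ∧ Fixed z a2 ∧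
    ¬ Commute a2 d ∧ red b = red (cj a1 (cj a2 d))

/-- The selected members. -/
def Good (D : Set G) (z a : G) : Prop := a ∈ D ∧ Commute z (a * z * a)

variable [Finite G] {D : Set G} {z : G} (hD : Trans D) (hV : Cfsg.IsElementaryAbelian 2 (pCore 2 G))
  (hZ : Subgroup.center G = ⊥) (hT : Twist D z)

omit [Finite G] in
theorem red_core {v : G} (hv : v ∈ pCore 2 G) : red v = 1 := (QuotientGroup.eq_one_iff v).2 hv

include hV in
omit [Finite G] in
theorem core_comm {u v : G} (hu : u ∈ pCore 2 G) (hv : v ∈ pCore 2 G) : Commute u v := by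
  haveI := hV.1
  exact congrArg Subtype.val (mul_comm' (⟨u, hu⟩ : ↥(pCore 2 G)) ⟨v, hv⟩)

include hV in
omit [Finite G] in
theorem core_inv {v : G} (hv : v ∈ pCore 2 G) : v⁻¹ = v :=
  inv_eq_of_mul_eq_one_right (by rw [← pow_two]; exact hV.2 v hv)

include hD in
/-- Congruent members agree when a member not commuting with them centralizes their quotient. -/
theorem eq_of_third {d d' a : G} (hd : d ∈ D) (hd' : d' ∈ D) (ha : a ∈ D) (h : d * d' ∈ pCore 2 G)
    (hn : ¬ Commute d a) (hc : Commute a (d * d')) : d' = d := by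
  obtain ⟨y, hy⟩ : ∃ y, y = d * d' := ⟨_, rfl⟩
  have he : d' = d * y := by rw [hy, ← mul_assoc, mul_self hD hd, one_mul]
  have hdy : Commute d y := hy ▸ (Commute.refl d).mul_right (commute_of_mem_two hD hd hd' h)
  rw [← hy] at hc
  have hn' : ¬ Commute d' a := fun hh => hn ((((sameComm_iff hD hd hd').2 h) a ha).2 hh)
  have hb := braid hD hd' ha hn'
  have hb0 : d * a * d = a * d * a := braid hD hd ha hn
  have e1 : cj d' a = (d * a * d) * (y * y) := by
    calc cj d' a = d * (y * a) * (d * y) := by rw [cj_def, he]; simp only [mul_assoc]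
      _ = d * a * (y * d) * y := by rw [← hc.eq]; simp only [mul_assoc]
      _ = _ := by rw [← hdy.eq]; simp only [mul_assoc]
  have e2 : cj a d' = (a * d * a) * y := by
    calc cj a d' = a * d * (y * a) := by rw [cj_def, he]; simp only [mul_assoc]
      _ = _ := by rw [← hc.eq]; simp only [mul_assoc]
  rw [e1, e2, hb0] at hb
  have h1 : y = 1 := mul_eq_left.1 (mul_left_cancel hb)
  rw [he, h1, mul_one]

include hD in
/-- A twisted image of a member outside. -/
theorem not_commute_image {p : G} (hp : p ∈ D) (hn : ¬ Fixed z p) (hT : Twist D z) :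
    ¬ Commute p (z * p * z⁻¹) := by
  intro hc
  obtain ⟨h, hh, hz⟩ := hT.rot p hp hn
  have hph : Commute p h := by
    clear hz
    induction hh using Subgroup.closure_induction with
    | mem x hx => exact hx.2.1
    | one => exact Commute.one_right p
    | mul x y _ _ hx hy => exact hx.mul_right hy
    | inv x _ hx => exact hx.inv_right
  apply hn
  show Commute (red z) (red p)
  rw [hz]
  exact (((Commute.refl p).mul_right hc).mul_right hph).symm.map red

include hD hV hZ hT

/-- The twisting element fixes no element of the core. -/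
theorem fix_free {v : G} (hv : v ∈ pCore 2 G) (hc : Commute z v) : v = 1 := by
  have hvi := core_inv hV hv
  have hvv : v * v = 1 := by rw [← pow_two]; exact hV.2 v hv
  have hout : ∀ p ∈ D, ¬ Fixed z p → Commute v p := by
    intro p hp hn
    obtain ⟨a, ha⟩ : ∃ a, a = z * p * z⁻¹ := ⟨_, rfl⟩
    have haD : a ∈ D := ha ▸ hD.conj z p hp
    have hpa : ¬ Commute p a := ha ▸ not_commute_image hD hp hn hT
    obtain ⟨h, hh, hz⟩ := hT.rot p hp hn
    rw [← ha] at hh hz
    have hp2 := mul_self hD hp
    have ha2 := mul_self hD haD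
    obtain ⟨α, hα⟩ : ∃ α, α = p * v * p * v := ⟨_, rfl⟩
    obtain ⟨β, hβ⟩ : ∃ β, β = a * v * a * v := ⟨_, rfl⟩
    have hαV : α ∈ pCore 2 G := by
      rw [hα]
      refine mul_mem ?_ hv
      have := Subgroup.Normal.conj_mem inferInstance v hv p
      rwa [inv_eq hD hp] at this
    have hβV : β ∈ pCore 2 G := by
      rw [hβ]
      refine mul_mem ?_ hv
      have := Subgroup.Normal.conj_mem inferInstance v hv a
      rwa [inv_eq hD haD] at this
    have hp' : v * p * v ∈ D := by simpa [hvi] using hD.conj v p hp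
    have ha' : v * a * v ∈ D := by simpa [hvi] using hD.conj v a haD
    have hαe : α = p * (v * p * v) := by rw [hα]; simp only [mul_assoc]
    have hβe : β = a * (v * a * v) := by rw [hβ]; simp only [mul_assoc]
    have hfix : ∀ {d d' : G}, d ∈ D → d' ∈ D → d * d' ∈ pCore 2 G → ∀ e ∈ D, Commute d e → Commute e (d * d') :=
      fun hd hd' hm e he hde => hde.symm.mul_right ((((sameComm_iff hD hd hd').2 hm) e he).1 hde).symm
    have hhα : Commute h α ∧ Commute h β := by
      clear hz
      induction hh using Subgroup.closure_induction with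
      | mem x hx =>
        exact ⟨hαe ▸ hfix hp hp' (hαe ▸ hαV) x hx.1 hx.2.1, hβe ▸ hfix haD ha' (hβe ▸ hβV) x hx.1 hx.2.2⟩
      | one => exact ⟨Commute.one_left _, Commute.one_left _⟩
      | mul x y _ _ hx hy => exact ⟨hx.1.mul_left hy.1, hx.2.mul_left hy.2⟩
      | inv x _ hx => exact ⟨hx.1.inv_left, hx.2.inv_left⟩
    have hact : ∀ {y : G}, y ∈ pCore 2 G → Commute h y → z * y * z⁻¹ = p * a * y * (a * p) := by
      intro y hy hhy
      have hu : (p * a * h)⁻¹ * z ∈ pCore 2 G := QuotientGroup.eq.1 hz.symm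
      calc z * y * z⁻¹ = (p * a * h) * ((((p * a * h)⁻¹ * z) * y) * ((p * a * h)⁻¹ * z)⁻¹) * (p * a * h)⁻¹ := by
            group
        _ = (p * a) * (h * y * h⁻¹) * (p * a)⁻¹ := by
            rw [(core_comm hV hu hy).eq, mul_inv_cancel_right]; group
        _ = _ := by rw [hhy.eq, mul_inv_cancel_right, _root_.mul_inv_rev, inv_eq hD hp, inv_eq hD haD]
    have hzv : z * v * z⁻¹ = v := by rw [hc.eq, mul_inv_cancel_right]
    have e1 : z * α * z⁻¹ = β := by
      calc z * α * z⁻¹ = a * (z * v * z⁻¹) * a * (z * v * z⁻¹) := by rw [hα, ha]; group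
        _ = β := by rw [hzv, hβ]
    obtain ⟨c, hcd⟩ : ∃ c, c = z * a * z⁻¹ := ⟨_, rfl⟩
    have hcD : c ∈ D := hcd ▸ hD.conj z a haD
    have e2 : z * β * z⁻¹ = c * v * c * v := by
      calc z * β * z⁻¹ = c * (z * v * z⁻¹) * c * (z * v * z⁻¹) := by rw [hβ, hcd]; group
        _ = _ := by rw [hzv]
    have hpap : p * a * p = a * p * a := braid hD hp haD hpa
    have hc3 : c * (p * a * p) ∈ pCore 2 G := by
      have hha : Commute h a := by
        clear hz hhα hact
        induction hh using Subgroup.closure_induction with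
        | mem x hx => exact hx.2.2.symm
        | one => exact Commute.one_left _
        | mul x y _ _ hx hy => exact hx.mul_left hy
        | inv x _ hx => exact hx.inv_left
      refine (red_eq_iff hD hcD).1 ?_
      rw [hcd, map_mul, map_mul, map_inv, hz, ← map_inv, ← map_mul, ← map_mul]
      congr 1
      calc p * a * h * a * (p * a * h)⁻¹ = p * a * (h * a * h⁻¹) * (a⁻¹ * p⁻¹) := by group
        _ = p * a * p := by
          rw [hha.eq, mul_inv_cancel_right, inv_eq hD hp, inv_eq hD haD]
          simp only [mul_assoc]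
          rw [← mul_assoc a a, ha2, one_mul]
    -- congruent members have the same commutator with `v`
    have hcv : c * v * c * v = (p * a * p) * v * (p * a * p) * v := by
      set c0 := p * a * p
      have e : c = (c * c0) * c0 := by
        rw [mul_assoc, show c0 * c0 = 1 from mul_self hD (cj_mem hD hp haD), mul_one]
      have hcc : Commute c c0 := commute_of_mem_two hD hcD (cj_mem hD hp haD) hc3
      set s := c * c0
      have hsc : Commute c0 s := hcc.symm.mul_right (Commute.refl c0)
      have hs2 : s * s = 1 := by rw [← pow_two]; exact hV.2 s hc3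
      rw [e]
      calc s * c0 * v * (s * c0) * v = s * c0 * (v * s) * c0 * v := by simp only [mul_assoc]
        _ = s * (c0 * s) * v * c0 * v := by rw [(core_comm hV hv hc3).eq]; simp only [mul_assoc]
        _ = (s * s) * c0 * v * c0 * v := by rw [hsc.eq]; simp only [mul_assoc]
        _ = _ := by rw [hs2, one_mul]
    have hαp : p * α = α * p := by
      have h1 := hαe ▸ hfix hp hp' (hαe ▸ hαV) p hp (Commute.refl p)
      exact h1.eq
    have b1 : β = p * (a * α * a) * p := by
      rw [← e1, hact hαV hhα.1]; simp only [mul_assoc]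
    have b2 : z * β * z⁻¹ = a * α * a := by
      rw [hact hβV hhα.2, b1]
      have h3 : p * a * p * a = a * p := by
        rw [hpap]
        simp only [mul_assoc]
        rw [ha2, mul_one]
      calc p * a * (p * (a * α * a) * p) * (a * p) = (p * a * p * a) * α * (a * p * a * p) := by
            simp only [mul_assoc]
        _ = (a * p) * α * (p * a) := by
            rw [h3]
            congr 1
            rw [← hpap]
            simp only [mul_assoc]
            rw [hp2, mul_one]
        _ = _ := by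
            simp only [mul_assoc]
            rw [← mul_assoc p α, hαp]
            simp only [mul_assoc]
            rw [← mul_assoc p p, hp2, one_mul]
    have hpv : p * v * p = α * v := by rw [hα, mul_assoc _ v v, hvv, mul_one]
    have hav : a * v * a = β * v := by rw [hβ, mul_assoc _ v v, hvv, mul_one]
    have b3 : z * β * z⁻¹ = β * (a * α * a) * α := by
      rw [e2, hcv]
      calc p * a * p * v * (p * a * p) * v = p * a * (p * v * p) * a * p * v := by simp only [mul_assoc]
        _ = p * (a * α * a) * (a * v * a) * p * v := by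
            rw [hpv]
            simp only [mul_assoc]
            rw [← mul_assoc a a, ha2, one_mul]
        _ = (p * (a * α * a) * p) * (p * β * p) * (p * v * p) * v := by
            rw [hav]
            simp only [mul_assoc]
            simp only [← mul_assoc p p, hp2, one_mul]
        _ = β * (a * α * a) * α := by
            rw [← b1, hpv]
            have : p * β * p = a * α * a := by
              rw [b1]; simp only [mul_assoc]; simp only [← mul_assoc p p, hp2, one_mul, mul_one]
            rw [this, ← mul_assoc, mul_assoc _ v v, hvv, mul_one]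
    have haα : a * α * a ∈ pCore 2 G := by
      have := Subgroup.Normal.conj_mem inferInstance α hαV a
      rwa [inv_eq hD haD] at this
    have hab : β = α := by
      have b4 : a * α * a * (β * α) = a * α * a := by
        rw [← mul_assoc (a * α * a), ← (core_comm hV hβV haα).eq, ← b3, b2]
      exact (eq_inv_of_mul_eq_one_left (mul_eq_left.1 b4)).trans (core_inv hV hαV)
    have hca : Commute a α := by
      rw [← hab, hβe]
      exact hfix haD ha' (hβe ▸ hβV) a haD (Commute.refl a)
    rw [hαe] at hca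
    have := eq_of_third hD hp hp' haD (hαe ▸ hαV) hpa hca
    calc v * p = (v * p * v) * v := by rw [mul_assoc _ v v, hvv, mul_one]
      _ = p * v := by rw [this]
  have hall : ∀ d ∈ D, Commute v d := by
    intro d hd
    by_cases hf : Fixed z d
    · obtain ⟨a, ha, hna, hnc⟩ := hT.out d hd hf
      have h1 := ((hout a ha hna).mul_right (hout _ (cj_mem hD ha hd) hnc)).mul_right (hout a ha hna)
      rwa [show a * cj a d * a = d from cj_cj hD ha d] at h1
    · exact hout d hd hf
  have hcen : v ∈ Subgroup.center G := Subgroup.mem_center_iff.2 fun g => by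
    have hg : g ∈ Subgroup.closure D := hD.gen ▸ Subgroup.mem_top g
    induction hg using Subgroup.closure_induction with
    | mem u hu => exact (hall u hu).eq.symm
    | one => simp
    | mul u w _ _ iu iw => exact (Commute.mul_left iu iw).eq
    | inv u _ iu => exact (Commute.inv_left iu).eq
  rwa [hZ, Subgroup.mem_bot] at hcen

/-- The displacement of the core by `z` is onto. -/
theorem exists_solve {y : G} (hy : y ∈ pCore 2 G) : ∃ v ∈ pCore 2 G, v⁻¹ * (z * v * z⁻¹) = y := by
  let f : ↥(pCore 2 G) → ↥(pCore 2 G) := fun v => v⁻¹ * ⟨z * v * z⁻¹, Subgroup.Normal.conj_mem inferInstance _ v.2 z⟩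
  have hinj : Function.Injective f := by
    intro v w h
    have h' : (v : G)⁻¹ * (z * v * z⁻¹) = (w : G)⁻¹ * (z * w * z⁻¹) := congrArg Subtype.val h
    have h1 : Commute z ((w : G) * (v : G)⁻¹) := by
      show z * ((w : G) * (v : G)⁻¹) = (w : G) * (v : G)⁻¹ * z
      calc z * ((w : G) * (v : G)⁻¹) = (w : G) * ((w : G)⁻¹ * (z * w * z⁻¹)) * (z * (v : G)⁻¹) := by group
        _ = (w : G) * ((v : G)⁻¹ * (z * v * z⁻¹)) * (z * (v : G)⁻¹) := by rw [h']
        _ = _ := by group
    exact (Subtype.ext (mul_inv_eq_one.1 (fix_free hD hV hZ hT (mul_mem w.2 (inv_mem v.2)) h1))).symm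
  obtain ⟨v, hv⟩ := (Finite.surjective_of_injective hinj) ⟨y, hy⟩
  exact ⟨v, v.2, congrArg Subtype.val hv⟩

/-- An element centralizing `z` modulo the core lifts to one centralizing it. -/
theorem exists_lift {g : G} (hg : Commute (red z) (red g)) :
    ∃ v ∈ pCore 2 G, Commute z (v * g) := by
  have hm : g * z * g⁻¹ * z⁻¹ ∈ pCore 2 G := by
    refine (QuotientGroup.eq_one_iff _).1 ?_
    show red (g * z * g⁻¹ * z⁻¹) = 1
    rw [map_mul, map_mul, map_mul, map_inv, map_inv, hg.symm.eq, mul_inv_cancel_right, mul_inv_cancel]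
  obtain ⟨v, hv, hv'⟩ := exists_solve hD hV hZ hT hm
  refine ⟨v, hv, ?_⟩
  show z * (v * g) = v * g * z
  calc z * (v * g) = v * (v⁻¹ * (z * v * z⁻¹)) * z * g := by group
    _ = _ := by rw [hv']; group

/-- At most one selected member in a class. -/
theorem good_unique {a a' : G} (ha : Good D z a) (ha' : Good D z a') (h : red a = red a') : a' = a := by
  obtain ⟨y, hy⟩ : ∃ y, y = a * a' := ⟨_, rfl⟩
  have hyV : y ∈ pCore 2 G := hy ▸ (red_eq_iff hD ha.1).1 h
  have he : a' = a * y := by rw [hy, ← mul_assoc, mul_self hD ha.1, one_mul]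
  have hay : Commute a y := hy ▸ (Commute.refl a).mul_right (commute_of_mem_two hD ha.1 ha'.1 (hy ▸ hyV))
  have h1 : (a * z * a)⁻¹ * (a' * z * a') = 1 := by
    refine fix_free hD hV hZ hT ?_ (ha.2.inv_right.mul_right ha'.2)
    refine QuotientGroup.eq.1 ?_
    show red (a * z * a) = red (a' * z * a')
    rw [map_mul, map_mul, map_mul, map_mul, h]
  rw [inv_mul_eq_one, he] at h1
  have h2 : a * (y * z * y) * a = a * z * a := by
    calc a * (y * z * y) * a = a * y * z * (y * a) := by simp only [mul_assoc]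
      _ = _ := by rw [← hay.eq, ← h1]
  have h3 : y * z * y = z := mul_left_cancel (mul_right_cancel h2)
  have h4 : Commute z y := by
    show z * y = y * z
    nth_rw 1 [← h3]
    rw [mul_assoc _ y y, ← pow_two, hV.2 y hyV, mul_one]
  rw [he, fix_free hD hV hZ hT hyV h4, mul_one]

/-- A selected member congruent to each member. -/
theorem exists_good {d : G} (hd : d ∈ D) : ∃ a, Good D z a ∧ red a = red d := by
  have h2 : ∃ a ∈ D, ∃ b ∈ D, a ≠ b := by
    by_contra h
    push Not at h
    have hc : d ∈ Subgroup.center G := Subgroup.mem_center_iff.2 fun g => by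
      have := h _ (hD.conj g d hd) d hd
      rwa [mul_inv_eq_iff_eq_mul] at this
    rw [hZ, Subgroup.mem_bot] at hc
    exact ne_one hD hd hc
  by_cases hf : Fixed z d
  · have hb := hD.conj z d hd
    have he : red d = red (z * d * z⁻¹) := by
      rw [map_mul, map_mul, map_inv, hf.eq, mul_inv_cancel_right]
    obtain ⟨g, hg, hgd⟩ := orbit_two hD h2 hd hb (sameComm_of_red hD hd hb he)
    obtain ⟨v, hv, hv'⟩ := exists_solve hD hV hZ hT (inv_mem hg)
    have hc : z * (v * d * v⁻¹) * z⁻¹ = v * d * v⁻¹ := by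
      calc z * (v * d * v⁻¹) * z⁻¹ = (z * v * z⁻¹) * (z * d * z⁻¹) * (z * v * z⁻¹)⁻¹ := by group
        _ = v * (v⁻¹ * (z * v * z⁻¹) * g) * d * (v * (v⁻¹ * (z * v * z⁻¹) * g))⁻¹ := by rw [hgd]; group
        _ = _ := by rw [hv', inv_mul_cancel, mul_one]
    have hm := hD.conj v d hd
    refine ⟨v * d * v⁻¹, ⟨hm, ?_⟩, ?_⟩
    · have hcc : Commute z (v * d * v⁻¹) := mul_inv_eq_iff_eq_mul.1 hc
      exact (hcc.mul_right (Commute.refl z)).mul_right hcc
    · rw [map_mul, map_mul, map_inv, red_core hv, one_mul, inv_one, mul_one]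
  obtain ⟨a0, ha0⟩ : ∃ a0, a0 = z * d * z⁻¹ := ⟨_, rfl⟩
  have ha0D : a0 ∈ D := ha0 ▸ hD.conj z d hd
  have hn : ¬ Commute d a0 := ha0 ▸ not_commute_image hD hd hf hT
  have hd2 := mul_self hD hd
  obtain ⟨h, hh, hz⟩ := hT.rot d hd hf
  rw [← ha0] at hh hz
  have hhc : Commute h (d * a0) := by
    clear hz
    induction hh using Subgroup.closure_induction with
    | mem x hx => exact hx.2.1.symm.mul_right hx.2.2.symm
    | one => exact Commute.one_left _
    | mul x y _ _ hx hy => exact hx.mul_left hy
    | inv x _ hx => exact hx.inv_left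
  have hcz : Commute (red z) (red (d * a0)) := by
    rw [hz]
    exact ((Commute.refl (d * a0)).mul_left hhc).map red
  obtain ⟨u, hu, hut⟩ := exists_lift hD hV hZ hT hcz
  obtain ⟨t, ht⟩ : ∃ t, t = u * (d * a0) := ⟨_, rfl⟩
  rw [← ht] at hut
  have hrt : red t = red (d * a0) := by rw [ht, map_mul, red_core hu, one_mul]
  have ht3 : t ^ 3 = 1 := fix_free hD hV hZ hT ((QuotientGroup.eq_one_iff _).1 (by
    show red (t ^ 3) = 1
    rw [map_pow, hrt, ← map_pow, orderOf_mul hD d a0 hd ha0D hn, map_one])) (hut.pow_right 3)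
  obtain ⟨d'', hd''⟩ : ∃ d'', d'' = t * d * t⁻¹ := ⟨_, rfl⟩
  have hd''D : d'' ∈ D := hd'' ▸ hD.conj t d hd
  have hb' : d * a0 * d * (d * a0)⁻¹ = a0 := by
    rw [_root_.mul_inv_rev, inv_eq hD hd, inv_eq hD ha0D]
    calc d * a0 * d * (a0 * d) = (d * a0 * d) * a0 * d := by simp only [mul_assoc]
      _ = a0 * d * (a0 * a0) * d := by rw [show d * a0 * d = a0 * d * a0 from braid hD hd ha0D hn]; simp only [mul_assoc]
      _ = a0 := by rw [mul_self hD ha0D, mul_one, mul_assoc, hd2, mul_one]
  have hrd : red d'' = red a0 := by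
    rw [hd'', map_mul, map_mul, map_inv, hrt, ← map_inv, ← map_mul, ← map_mul, hb']
  have hnd : ¬ Commute d d'' := fun hc => hn (commute_of_red_commute hD hd ha0D (hrd ▸ hc.map red))
  obtain ⟨P, hP⟩ : ∃ P, P = d * d'' := ⟨_, rfl⟩
  have hP3 : P ^ 3 = 1 := hP ▸ orderOf_mul hD d d'' hd hd''D hnd
  obtain ⟨c, hc⟩ : ∃ c, c = P * t⁻¹ := ⟨_, rfl⟩
  have hcV : c ∈ pCore 2 G := (QuotientGroup.eq_one_iff _).1 (by
    show red c = 1
    rw [hc, map_mul, map_inv, hrt, hP, map_mul, map_mul, hrd, mul_inv_cancel])
  have hPc : P = c * t := by rw [hc, inv_mul_cancel_right]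
  obtain ⟨v, hv⟩ : ∃ v, v = t * c * t⁻¹ := ⟨_, rfl⟩
  have hvV : v ∈ pCore 2 G := hv ▸ Subgroup.Normal.conj_mem inferInstance c hcV t
  have hvP : v * P * v⁻¹ = t := by
    have hi := core_inv hV hcV
    have hmix : t * c * t⁻¹ * c = c * (t * c * t⁻¹) := core_comm hV (Subgroup.Normal.conj_mem inferInstance c hcV t) hcV
    have hone : c * (t * c * t⁻¹) * (t * (t * c * t⁻¹) * t⁻¹) = 1 := by
      calc c * (t * c * t⁻¹) * (t * (t * c * t⁻¹) * t⁻¹) = c * t * (c * t) * (c * t) * (t ^ 3)⁻¹ := by group
        _ = 1 := by rw [ht3, inv_one, mul_one, ← hPc, ← hP3, pow_succ, pow_two]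
    calc v * P * v⁻¹ = (t * c * t⁻¹) * c * (t * (t * c⁻¹ * t⁻¹) * t⁻¹) * t := by rw [hv, hPc]; group
      _ = c * (t * c * t⁻¹) * (t * (t * c * t⁻¹) * t⁻¹) * t := by rw [hi, hmix]
      _ = t := by rw [hone, one_mul]
  obtain ⟨a, ha⟩ : ∃ a, a = v * d * v⁻¹ := ⟨_, rfl⟩
  have haD : a ∈ D := ha ▸ hD.conj v d hd
  have hra : red a = red d := by
    rw [ha, map_mul, map_mul, map_inv, red_core hvV, one_mul, inv_one, mul_one]
  have hata : a * t * a = t⁻¹ := by
    calc a * t * a = v * (d * P * d) * v⁻¹ := by rw [ha]; nth_rw 1 [← hvP]; group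
      _ = v * P⁻¹ * v⁻¹ := by
        congr 2
        rw [hP, _root_.mul_inv_rev, inv_eq hD hd, inv_eq hD hd''D, ← mul_assoc d d, hd2, one_mul]
      _ = _ := by rw [← hvP]; group
  obtain ⟨b, hb⟩ : ∃ b, b = z * a * z⁻¹ := ⟨_, rfl⟩
  obtain ⟨a'', ha''⟩ : ∃ a'', a'' = t * a * t⁻¹ := ⟨_, rfl⟩
  have hbD : b ∈ D := hb ▸ hD.conj z a haD
  have ha''D : a'' ∈ D := ha'' ▸ hD.conj t a haD
  have hbtb : b * t * b = t⁻¹ := by
    calc b * t * b = z * (a * (z⁻¹ * t * z) * a) * z⁻¹ := by rw [hb]; group
      _ = z * t⁻¹ * z⁻¹ := by rw [mul_assoc z⁻¹, ← hut.eq, inv_mul_cancel_left, hata]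
      _ = _ := by rw [hut.inv_right.eq, mul_inv_cancel_right]
  have hata'' : a'' * t * a'' = t⁻¹ := by
    calc a'' * t * a'' = t * (a * t * a) * t⁻¹ := by rw [ha'']; group
      _ = _ := by rw [hata, mul_inv_cancel, one_mul]
  have hty : Commute t (a'' * b) := by
    have hinv : a'' * t⁻¹ * a'' = t := by
      calc a'' * t⁻¹ * a'' = (a'' * a'') * t * (a'' * a'') := by rw [← hata'']; simp only [mul_assoc]
        _ = t := by rw [mul_self hD ha''D, one_mul, mul_one]
    have e : (a'' * b) * t * (a'' * b)⁻¹ = t := by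
      rw [_root_.mul_inv_rev, inv_eq hD hbD, inv_eq hD ha''D]
      calc a'' * b * t * (b * a'') = a'' * (b * t * b) * a'' := by simp only [mul_assoc]
        _ = t := by rw [hbtb, hinv]
    exact (mul_inv_eq_iff_eq_mul.1 e).symm
  have hrb : red b = red a0 := by
    rw [hb, ha0, map_mul, map_mul, map_inv, hra, ← map_inv, ← map_mul, ← map_mul]
  have hra'' : red a'' = red a0 := by
    rw [ha'', map_mul, map_mul, map_inv, hra, ← map_inv, ← map_mul, ← map_mul, ← hd'', hrd]
  have hm : a'' * b ∈ pCore 2 G := (red_eq_iff hD ha''D).1 (hra''.trans hrb.symm)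
  have hcy : Commute a'' (a'' * b) := (Commute.refl a'').mul_right (commute_of_mem_two hD ha''D hbD hm)
  have hna : ¬ Commute a'' (t * a'' * t⁻¹) := by
    intro hc'
    have h1 : Commute a a'' := by
      have h := hc'
      nth_rw 1 [ha''] at h
      exact (Commute.conj_iff t).1 h
    exact hn (commute_of_red_commute hD hd ha0D (hra ▸ hra'' ▸ h1.map red))
  have hba : b = a'' := eq_of_third hD ha''D hbD (hD.conj t a'' ha''D) hm hna
    ((hty.mul_left hcy).mul_left hty.inv_left)
  refine ⟨a, ⟨haD, ?_⟩, hra⟩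
  have e : a * z * a = t⁻¹ * t⁻¹ * z := by
    calc a * z * a = a * (z * a * z⁻¹) * z := by group
      _ = (a * t * a) * t⁻¹ * z := by rw [← hb, hba, ha'']; group
      _ = _ := by rw [hata]
  rw [e]
  exact (hut.inv_right.mul_right hut.inv_right).mul_right (Commute.refl z)

omit hV hZ hT in
/-- Elements centralizing `z` permute the selected members. -/
theorem good_conj {a w : G} (hw : Commute z w) (ha : Good D z a) : Good D z (w * a * w⁻¹) := by
  refine ⟨hD.conj w a ha.1, ?_⟩
  have e : w * a * w⁻¹ * z * (w * a * w⁻¹) = w * (a * z * a) * w⁻¹ := by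
    calc w * a * w⁻¹ * z * (w * a * w⁻¹) = w * a * (w⁻¹ * (z * w)) * a * w⁻¹ := by group
      _ = _ := by rw [hw.eq, inv_mul_cancel_left]; group
  rw [e]
  exact (hw.mul_right ha.2).mul_right hw.inv_right

/-- A selected member fixed modulo the core centralizes `z`. -/
theorem commute_of_fixed {a : G} (ha : Good D z a) (hf : Fixed z a) : Commute z a := by
  have h1 : a * z * a * z⁻¹ = 1 := by
    refine fix_free hD hV hZ hT ?_ (ha.2.mul_right (Commute.refl z).inv_right)
    refine (QuotientGroup.eq_one_iff _).1 ?_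
    show red (a * z * a * z⁻¹) = 1
    rw [map_mul, map_mul, map_mul, map_inv, mul_assoc (red a) (red z), hf.eq, ← mul_assoc, ← map_mul,
      mul_self hD ha.1, map_one, one_mul, mul_inv_cancel]
  rw [mul_inv_eq_one] at h1
  show z * a = a * z
  nth_rw 1 [← h1]
  rw [mul_assoc _ a a, mul_self hD ha.1, mul_one]

/-- The selected members are closed under conjugation. -/
theorem good_cj {d b : G} (hd : Good D z d) (hb : Good D z b) : Good D z (cj d b) := by
  have hin : ∀ {a x : G}, Good D z a → Fixed z a → Good D z x → Good D z (cj a x) := fun {a x} ha hf hx => by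
    have := good_conj hD (commute_of_fixed hD hV hZ hT ha hf) hx
    rwa [← cj_conj hD ha.1] at this
  by_cases hc : Commute d b
  · rwa [cj_of_commute hD hd.1 hc]
  by_cases hfd : Fixed z d
  · exact hin hd hfd hb
  by_cases hfb : Fixed z b
  · rw [braid hD hd.1 hb.1 hc]
    exact hin hb hfb hd
  obtain ⟨e1, he1, e2, he2, hf1, hf2, hn2, he⟩ := hT.two d hd.1 b hb.1 hfd hfb
  obtain ⟨a1, ha1, hr1⟩ := exists_good hD hV hZ hT he1
  obtain ⟨a2, ha2, hr2⟩ := exists_good hD hV hZ hT he2
  have hg1 : Fixed z a1 := by rw [Fixed, hr1]; exact hf1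
  have hg2 : Fixed z a2 := by rw [Fixed, hr2]; exact hf2
  have hn : ¬ Commute a2 d := fun h => hn2 (commute_of_red_commute hD he2 hd.1 (hr2 ▸ h.map red))
  have hbe : b = cj a1 (cj a2 d) := by
    refine good_unique hD hV hZ hT (hin ha1 hg1 (hin ha2 hg2 hd)) hb ?_
    rw [he]
    simp only [cj_def, map_mul, hr1, hr2]
  have hn' : ¬ Commute d a2 := fun h => hn h.symm
  have hX : cj d (cj a2 d) = a2 := by rw [← braid hD hd.1 ha2.1 hn', cj_cj hD hd.1]
  rw [hbe, cj_cj_dist hD hd.1, hX]
  by_cases h1 : Commute d a1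
  · rw [cj_of_commute hD hd.1 h1]
    exact hin ha1 hg1 ha2
  have hf : Good D z (cj d a1) := by rw [braid hD hd.1 ha1.1 h1]; exact hin ha1 hg1 hd
  by_cases h2 : Commute (cj d a1) a2
  · rwa [cj_of_commute hD hf.1 h2]
  rw [braid hD hf.1 ha2.1 h2]
  exact hin ha2 hg2 hf

/-- The selected members span a complement to the 2-core. -/
theorem exists_complement : ∃ K : Subgroup G, (pCore 2 G).IsComplement' K := by
  obtain ⟨K, hK⟩ : ∃ K, K = Subgroup.closure {a | Good D z a} := ⟨_, rfl⟩
  refine ⟨K, Subgroup.isComplement'_of_disjoint_and_mul_eq_univ ?_ ?_⟩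
  · rw [Subgroup.disjoint_def]
    intro v hv hvK
    have hperm : ∀ a, Good D z a → Good D z (v * a * v⁻¹) ∧ Good D z (v⁻¹ * a * v) := by
      rw [hK] at hvK
      clear hv
      induction hvK using Subgroup.closure_induction with
      | mem x hx =>
        intro a ha
        have := good_cj hD hV hZ hT hx ha
        rw [cj_conj hD hx.1] at this
        exact ⟨this, by rw [inv_eq hD hx.1] at this ⊢; exact this⟩
      | one => intro a ha; simpa using ha
      | mul x y _ _ ix iy =>
        intro a ha
        refine ⟨?_, ?_⟩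
        · have := (ix _ (iy a ha).1).1
          simpa [mul_assoc] using this
        · have := (iy _ (ix a ha).2).2
          simpa [mul_assoc] using this
      | inv x _ ix => intro a ha; simpa [and_comm] using ix a ha
    have hfix : ∀ a, Good D z a → Commute v a := fun a ha => mul_inv_eq_iff_eq_mul.1
      (good_unique hD hV hZ hT ha (hperm a ha).1
        (by rw [map_mul, map_mul, map_inv, red_core hv, one_mul, inv_one, mul_one]))
    have hall : ∀ d ∈ D, Commute v d := by
      intro d hd
      obtain ⟨a, ha, hr⟩ := exists_good hD hV hZ hT hd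
      have e : d = a * (a⁻¹ * d) := (mul_inv_cancel_left _ _).symm
      rw [e]
      exact (hfix a ha).mul_right (core_comm hV hv (QuotientGroup.eq.1 hr))
    have hcen : v ∈ Subgroup.center G := Subgroup.mem_center_iff.2 fun g => by
      have hg : g ∈ Subgroup.closure D := hD.gen ▸ Subgroup.mem_top g
      induction hg using Subgroup.closure_induction with
      | mem u hu => exact (hall u hu).eq.symm
      | one => simp
      | mul u w _ _ iu iw => exact (Commute.mul_left iu iw).eq
      | inv u _ iu => exact (Commute.inv_left iu).eq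
    rwa [hZ, Subgroup.mem_bot] at hcen
  · rw [← Subgroup.normal_mul]
    have htop : pCore 2 G ⊔ K = ⊤ := by
      refine top_le_iff.1 ?_
      rw [← hD.gen, Subgroup.closure_le]
      intro d hd
      obtain ⟨a, ha, hr⟩ := exists_good hD hV hZ hT hd
      have hm : a⁻¹ * d ∈ pCore 2 G := QuotientGroup.eq.1 hr
      have := mul_mem (Subgroup.mem_sup_right (S := pCore 2 G) (hK ▸ Subgroup.subset_closure ha : a ∈ K))
        (Subgroup.mem_sup_left (T := K) hm)
      rwa [mul_inv_cancel_left] at this
    rw [htop, Subgroup.coe_top]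

end Cfsg.Lib.Fischer.RadicalAbelian
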